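import Mathlib
import Groth.Prelude.Def_AlgSt4
import Groth.Agent.Lib.Helper2.FibGrpd

/-!
# Field-valued points of categories fibred in groupoids (helper2)

The relation "a third point maps to both" on field-valued points of a category fibred in
groupoids over `(Sch/S)` is an equivalence relation.
-/

set_option autoImplicit false
open CategoryTheory CategoryTheory.Limits AlgebraicGeometry Opposite

universe w' v' w v u

namespace Groth.Agent.Helper2.AlgStLib.Pts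

variable {S : Scheme.{u}}

/-- Amalgamation of two field-valued schemes over a third one, over the base `S`. -/
theorem exists_amalg {K₁ K₂ L : Type u} [Field K₁] [Field K₂] [Field L]
    (s₁ : Spec (CommRingCat.of K₁) ⟶ S) (s₂ : Spec (CommRingCat.of K₂) ⟶ S)
    (t : Spec (CommRingCat.of L) ⟶ S) (β : Over.mk s₁ ⟶ Over.mk t) (γ : Over.mk s₂ ⟶ Over.mk t) :
    ∃ (Ω : Type u) (_ : Field Ω) (w : Spec (CommRingCat.of Ω) ⟶ S)
      (d₁ : Over.mk w ⟶ Over.mk s₁) (d₂ : Over.mk w ⟶ Over.mk s₂), d₁ ≫ β = d₂ ≫ γ := by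
  obtain ⟨Ω, _, i₁, i₂, hi⟩ :=
    AlgSp.FieldPt.exists_amalgamation (Spec.preimage β.left).hom (Spec.preimage γ.left).hom
  have hL : Spec.map (CommRingCat.ofHom i₁) ≫ β.left = Spec.map (CommRingCat.ofHom i₂) ≫ γ.left := by
    conv_lhs => rw [← Spec.map_preimage β.left]
    conv_rhs => rw [← Spec.map_preimage γ.left]
    rw [← Spec.map_comp, ← Spec.map_comp]
    congr 1
    exact CommRingCat.hom_ext hi
  let w : Spec (CommRingCat.of Ω) ⟶ S := Spec.map (CommRingCat.ofHom i₁) ≫ s₁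
  let d₁ : Over.mk w ⟶ Over.mk s₁ := Over.homMk (Spec.map (CommRingCat.ofHom i₁)) rfl
  have e₁ : β.left ≫ t = s₁ := Over.w β
  have e₂ : γ.left ≫ t = s₂ := Over.w γ
  have hw : Spec.map (CommRingCat.ofHom i₂) ≫ s₂ = w := by
    change _ = Spec.map (CommRingCat.ofHom i₁) ≫ s₁
    rw [← e₁, ← e₂, ← Category.assoc, ← Category.assoc, hL]
  let d₂ : Over.mk w ⟶ Over.mk s₂ := Over.homMk (Spec.map (CommRingCat.ofHom i₂)) hw
  exact ⟨Ω, inferInstance, w, d₁, d₂, Over.OverMorphism.ext (by simpa [d₁, d₂] using hL)⟩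

variable {𝒳 : BasedCategory.{v, w} (Over S)}

/-- Every morphism lies over some morphism between prescribed images. -/
theorem exists_base {a b : 𝒳.obj} (φ : a ⟶ b) {R Q : Over S} (ha : 𝒳.p.obj a = R)
    (hb : 𝒳.p.obj b = Q) : ∃ β : R ⟶ Q, 𝒳.p.IsHomLift β φ := by
  subst ha hb
  exact ⟨𝒳.p.map φ, inferInstance⟩

theorem rel_refl (p : AlgSt.FPt 𝒳) : AlgSt.FPt.Rel p p := ⟨p, 𝟙 _, 𝟙 _, trivial⟩

theorem rel_symm {p q : AlgSt.FPt 𝒳} (h : AlgSt.FPt.Rel p q) : AlgSt.FPt.Rel q p := by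
  obtain ⟨r, a, b, -⟩ := h
  exact ⟨r, b, a, trivial⟩

theorem rel_trans (h𝒳 : FibCat.IsFibGrpd 𝒳.p) {p q q' : AlgSt.FPt 𝒳}
    (h₁ : AlgSt.FPt.Rel p q) (h₂ : AlgSt.FPt.Rel q q') : AlgSt.FPt.Rel p q' := by
  obtain ⟨r, a, b, -⟩ := h₁
  obtain ⟨r', c, d, -⟩ := h₂
  obtain ⟨β, hβ⟩ := exists_base b r.lies q.lies
  obtain ⟨γ, hγ⟩ := exists_base c r'.lies q.lies
  obtain ⟨Ω, _, w, d₁, d₂, hd⟩ := exists_amalg r.str r'.str q.str β γ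
  obtain ⟨r₁, ψ₁, hψ₁⟩ := IsFibGrpd.exists_lift_of_eq 𝒳.p h𝒳 r.lies d₁
  obtain ⟨r₂, ψ₂, hψ₂⟩ := IsFibGrpd.exists_lift_of_eq 𝒳.p h𝒳 r'.lies d₂
  have h1 : 𝒳.p.IsHomLift (d₁ ≫ β) (ψ₁ ≫ b) := inferInstance
  have h2 : 𝒳.p.IsHomLift (d₂ ≫ γ) (ψ₂ ≫ c) := inferInstance
  obtain ⟨χ, ⟨-, -⟩, -⟩ := IsFibGrpd.existsUnique 𝒳.p h𝒳 (𝟙 (Over.mk w)) (d₂ ≫ γ) (d₁ ≫ β)
    (by rw [Category.id_comp, hd]) (ψ₂ ≫ c) (ψ₁ ≫ b)
  have hl : 𝒳.p.obj r₁ = Over.mk w := IsHomLift.domain_eq 𝒳.p d₁ ψ₁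
  exact ⟨⟨Ω, w, r₁, hl⟩, ψ₁ ≫ a, χ ≫ ψ₂ ≫ d, trivial⟩

/-- `S12817`. -/
theorem rel_equivalence (h𝒳 : FibCat.IsFibGrpd 𝒳.p) :
    _root_.Equivalence (@AlgSt.FPt.Rel S 𝒳) :=
  ⟨rel_refl, rel_symm, rel_trans h𝒳⟩

theorem mk_eq_mk_iff (h𝒳 : FibCat.IsFibGrpd 𝒳.p) {p q : AlgSt.FPt 𝒳} :
    AlgSt.Points.mk p = AlgSt.Points.mk q ↔ AlgSt.FPt.Rel p q := by
  constructor
  · intro h
    exact (Quot.eqvGen_exact h).rec (fun _ _ h => h) (fun _ => rel_refl _)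
      (fun _ _ _ ih => rel_symm ih) (fun _ _ _ _ _ ih₁ ih₂ => rel_trans h𝒳 ih₁ ih₂)
  · exact AlgSt.Points.sound

end Groth.Agent.Helper2.AlgStLib.Pts
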