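import Mathlib
import Groth.Prelude.Def_AlgSt4
import Groth.Agent.Lib.Helper2.AlgSt.Pts.Rel
import Groth.Agent.Lib.Helper2.FibCat.Yoneda

/-!
# Points of categories over `(Sch/S)`: functoriality and scheme charts (helper2)
-/

set_option autoImplicit false
open CategoryTheory CategoryTheory.Limits AlgebraicGeometry Opposite

universe w₃ v₃ w₂ v₂ w v u

namespace Groth.Agent.Helper2.AlgStLib.Pts

open Groth.Agent.Helper2.FibCatLib

variable {S : Scheme.{u}}
variable {𝒳 : BasedCategory.{v, w} (Over S)} {𝒴 : BasedCategory.{v₂, w₂} (Over S)}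
  {𝒵 : BasedCategory.{v₃, w₃} (Over S)}

/-- Two field-valued points joined by a morphism define the same point. -/
theorem mk_eq_of_hom {p q : AlgSt.FPt 𝒳} (φ : p.obj ⟶ q.obj) :
    AlgSt.Points.mk p = AlgSt.Points.mk q :=
  AlgSt.Points.sound ⟨p, 𝟙 _, φ, trivial⟩

theorem map_comp (f : 𝒳 ⥤ᵇ 𝒴) (g : 𝒴 ⥤ᵇ 𝒵) (x : AlgSt.Points 𝒳) :
    AlgSt.Points.map (BasedFunctor.comp f g) x = AlgSt.Points.map g (AlgSt.Points.map f x) := by
  obtain ⟨p, rfl⟩ := AlgSt.Points.mk_surjective x
  rfl

theorem map_id (x : AlgSt.Points 𝒳) : AlgSt.Points.map (BasedFunctor.id 𝒳) x = x := by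
  obtain ⟨p, rfl⟩ := AlgSt.Points.mk_surjective x
  rfl

/-- Functors joined by a family of morphisms induce the same map on points. -/
theorem map_congr_of_hom {f g : 𝒳 ⥤ᵇ 𝒴} (α : ∀ a : 𝒳.obj, f.obj a ⟶ g.obj a) :
    AlgSt.Points.map f = AlgSt.Points.map g := by
  funext x
  obtain ⟨p, rfl⟩ := AlgSt.Points.mk_surjective x
  rw [AlgSt.Points.map_mk, AlgSt.Points.map_mk]
  exact mk_eq_of_hom (p := p.map f) (q := p.map g) (α p.obj)

theorem map_congr {f g : 𝒳 ⥤ᵇ 𝒴} (e : f ≅ g) : AlgSt.Points.map f = AlgSt.Points.map g :=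
  map_congr_of_hom fun a => e.hom.toNatTrans.app a

theorem bijective_map_of_isEquivOver (e : 𝒳 ⥤ᵇ 𝒴) (he : FibCat.IsEquivOver e) :
    Function.Bijective (AlgSt.Points.map e) := by
  obtain ⟨e', ⟨η⟩, ⟨ε⟩⟩ := he
  have h1 : ∀ x, AlgSt.Points.map e' (AlgSt.Points.map e x) = x := fun x => by
    rw [← map_comp, map_congr η, map_id]
  have h2 : ∀ y, AlgSt.Points.map e (AlgSt.Points.map e' y) = y := fun y => by
    rw [← map_comp, map_congr ε, map_id]
  exact ⟨Function.LeftInverse.injective h1, Function.RightInverse.surjective h2⟩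

theorem isSurjective_of_isEquivOver (e : 𝒳 ⥤ᵇ 𝒴) (he : FibCat.IsEquivOver e) :
    AlgSt.IsSurjective e := (bijective_map_of_isEquivOver e he).2

theorem isSurjective_comp (f : 𝒳 ⥤ᵇ 𝒴) (g : 𝒴 ⥤ᵇ 𝒵) (hf : AlgSt.IsSurjective f)
    (hg : AlgSt.IsSurjective g) : AlgSt.IsSurjective (BasedFunctor.comp f g) := by
  intro z
  obtain ⟨y, rfl⟩ := hg z
  obtain ⟨x, rfl⟩ := hf y
  exact ⟨x, map_comp f g x⟩

theorem isSurjective_congr {f g : 𝒳 ⥤ᵇ 𝒴} (e : f ≅ g) (hf : AlgSt.IsSurjective f) :
    AlgSt.IsSurjective g := by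
  unfold AlgSt.IsSurjective at *
  rwa [← map_congr e]

theorem exists_factor_residueField (X : Scheme.{u}) (K : Type u) [Field K]
    (f : Spec (CommRingCat.of K) ⟶ X) :
    ∃ m : Spec (CommRingCat.of K) ⟶ Spec (X.residueField (f (IsLocalRing.closedPoint K))),
      m ≫ X.fromSpecResidueField (f (IsLocalRing.closedPoint K)) = f :=
  ⟨_, Scheme.descResidueField_stalkClosedPointTo_fromSpecResidueField K X f⟩

section Chart

variable {U : Over S}

theorem map_ofChart (x : FibCat.overCat U ⥤ᵇ 𝒳) (f : 𝒳 ⥤ᵇ 𝒴) (t : ↥U.left) :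
    AlgSt.Points.map f (AlgSt.Points.ofChart x t) =
      AlgSt.Points.ofChart (BasedFunctor.comp x f) t := rfl

theorem ofChart_congr {x x' : FibCat.overCat U ⥤ᵇ 𝒳} (e : x ≅ x') :
    AlgSt.Points.ofChart x = AlgSt.Points.ofChart x' := by
  funext t
  exact mk_eq_of_hom (p := ⟨_, _, _, _⟩) (q := ⟨_, _, _, _⟩) (e.hom.toNatTrans.app _)

/-- The point of the chart defined by a morphism from the spectrum of a field. -/
theorem mk_eq_ofChart (x : FibCat.overCat U ⥤ᵇ 𝒳) {K : Type u} [Field K]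
    (str : Spec (CommRingCat.of K) ⟶ S) (a : Over.mk str ⟶ U) :
    AlgSt.Points.mk ⟨K, str, x.obj (Over.mk a), x.w_obj (Over.mk a)⟩ =
      AlgSt.Points.ofChart x (a.left (IsLocalRing.closedPoint K)) := by
  obtain ⟨m, hm⟩ := exists_factor_residueField U.left K a.left
  let β : Over.mk str ⟶
      Over.mk (U.left.fromSpecResidueField (a.left (IsLocalRing.closedPoint K)) ≫ U.hom) :=
    Over.homMk m (by
      change m ≫ U.left.fromSpecResidueField (a.left (IsLocalRing.closedPoint K)) ≫ U.hom = str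
      rw [← Category.assoc, hm]
      exact Over.w a)
  let γ : (Over.mk a : Over U) ⟶
      Over.mk (Over.homMk (U.left.fromSpecResidueField (a.left (IsLocalRing.closedPoint K))) rfl :
      Over.mk (U.left.fromSpecResidueField (a.left (IsLocalRing.closedPoint K)) ≫ U.hom) ⟶ U) :=
    Over.homMk β (by
      apply Over.OverMorphism.ext
      exact hm)
  exact mk_eq_of_hom (p := ⟨K, str, x.obj (Over.mk a), x.w_obj (Over.mk a)⟩)
    (q := ⟨_, _, _, _⟩) (x.map γ)

theorem ofChart_overMap {V : Over S} (h : V ⟶ U) (x : FibCat.overCat U ⥤ᵇ 𝒳) (t : ↥V.left) :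
    AlgSt.Points.ofChart (BasedFunctor.comp (AlgSt.overMap h) x) t =
      AlgSt.Points.ofChart x (h.left t) := by
  have h1 := mk_eq_ofChart x (V.left.fromSpecResidueField t ≫ V.hom)
    ((Over.homMk (V.left.fromSpecResidueField t) rfl :
      Over.mk (V.left.fromSpecResidueField t ≫ V.hom) ⟶ V) ≫ h)
  have h2 : ((Over.homMk (V.left.fromSpecResidueField t) rfl :
      Over.mk (V.left.fromSpecResidueField t ≫ V.hom) ⟶ V) ≫ h).left
        (IsLocalRing.closedPoint (V.left.residueField t)) = h.left t := by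
    change (V.left.fromSpecResidueField t ≫ h.left) _ = _
    rw [Scheme.Hom.comp_apply, Scheme.fromSpecResidueField_apply]
  exact h1.trans (congrArg (AlgSt.Points.ofChart x) h2)

/-- The points of the slice `(Sch/U)` are the points of `U`: surjectivity. -/
theorem exists_ofChart_id_eq (w : AlgSt.Points (FibCat.overCat U)) :
    ∃ t : ↥U.left, AlgSt.Points.ofChart (BasedFunctor.id (FibCat.overCat U)) t = w := by
  obtain ⟨⟨K, str, A, hA⟩, rfl⟩ := AlgSt.Points.mk_surjective w
  obtain ⟨B, ⟨⟩, a⟩ := A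
  change B = Over.mk str at hA
  subst hA
  exact ⟨_, (mk_eq_ofChart (BasedFunctor.id (FibCat.overCat U)) str a).symm⟩

theorem ofChart_id_injective :
    Function.Injective (AlgSt.Points.ofChart (BasedFunctor.id (FibCat.overCat U))) := by
  intro t t' h
  unfold AlgSt.Points.ofChart at h
  rw [mk_eq_mk_iff (isFibGrpd_overCat U)] at h
  obtain ⟨⟨Ω, w, A, hA⟩, a, b, -⟩ := h
  change A ⟶ Over.mk (Over.homMk (U.left.fromSpecResidueField t) rfl :
      Over.mk (U.left.fromSpecResidueField t ≫ U.hom) ⟶ U) at a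
  change A ⟶ Over.mk (Over.homMk (U.left.fromSpecResidueField t') rfl :
      Over.mk (U.left.fromSpecResidueField t' ≫ U.hom) ⟶ U) at b
  have ha : a.left.left ≫ U.left.fromSpecResidueField t = A.hom.left :=
    congrArg (fun k => k.left) (Over.w a)
  have hb : b.left.left ≫ U.left.fromSpecResidueField t' = A.hom.left :=
    congrArg (fun k => k.left) (Over.w b)
  have hne : Nonempty ↥A.left.left := by
    change A.left = Over.mk w at hA
    rw [hA]
    exact ⟨IsLocalRing.closedPoint Ω⟩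
  obtain ⟨ω⟩ := hne
  have h1 : A.hom.left ω = t := by
    rw [← ha, Scheme.Hom.comp_apply, Scheme.fromSpecResidueField_apply]
  have h2 : A.hom.left ω = t' := by
    rw [← hb, Scheme.Hom.comp_apply, Scheme.fromSpecResidueField_apply]
  exact h1.symm.trans h2

/-- The bijection between the points of the scheme `U` and the points of the slice `(Sch/U)`. -/
noncomputable def ptEquiv (U : Over S) : ↥U.left ≃ AlgSt.Points (FibCat.overCat U) :=
  Equiv.ofBijective (AlgSt.Points.ofChart (BasedFunctor.id (FibCat.overCat U)))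
    ⟨ofChart_id_injective, fun w => exists_ofChart_id_eq w⟩

theorem ptEquiv_apply (t : ↥U.left) :
    ptEquiv U t = AlgSt.Points.ofChart (BasedFunctor.id (FibCat.overCat U)) t := rfl

theorem ofChart_eq_map_ptEquiv (x : FibCat.overCat U ⥤ᵇ 𝒳) (t : ↥U.left) :
    AlgSt.Points.ofChart x t = AlgSt.Points.map x (ptEquiv U t) := rfl

theorem map_overMap_ptEquiv {V : Over S} (h : V ⟶ U) (t : ↥V.left) :
    AlgSt.Points.map (AlgSt.overMap h) (ptEquiv V t) = ptEquiv U (h.left t) := by
  rw [← ofChart_eq_map_ptEquiv, ptEquiv_apply]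
  exact ofChart_overMap h (BasedFunctor.id (FibCat.overCat U)) t

end Chart

end Groth.Agent.Helper2.AlgStLib.Pts
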