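import Mathlib
import Groth.Prelude.Def_AlgSt4
import Groth.Agent.Lib.Helper2.AlgSt.Pts.Rel

/-!
# Points of 2-fibre products (helper2)
-/

set_option autoImplicit false
open CategoryTheory CategoryTheory.Limits AlgebraicGeometry Opposite

universe w₃ v₃ w₂ v₂ w v u

namespace Groth.Agent.Helper2.AlgStLib.Pts

variable {S : Scheme.{u}}
variable {𝒳 : BasedCategory.{v, w} (Over S)} {𝒴 : BasedCategory.{v₂, w₂} (Over S)}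
  {𝒵 : BasedCategory.{v₃, w₃} (Over S)}

/-- A field-valued point mapping to a given one, with a morphism over a given morphism of
field-valued schemes. -/
theorem exists_fpt_over (h𝒳 : FibCat.IsFibGrpd 𝒳.p) (p : AlgSt.FPt 𝒳) {Ω : Type u} [Field Ω]
    (w : Spec (CommRingCat.of Ω) ⟶ S) (d : Over.mk w ⟶ Over.mk p.str) :
    ∃ (a : 𝒳.obj) (ha : 𝒳.p.obj a = Over.mk w) (φ : a ⟶ p.obj), 𝒳.p.IsHomLift d φ := by
  obtain ⟨a, φ, hφ⟩ := IsFibGrpd.exists_lift_of_eq 𝒳.p h𝒳 p.lies d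
  exact ⟨a, IsHomLift.domain_eq 𝒳.p d φ, φ, hφ⟩

/-- `S12818`: the map `|𝒵 ×_𝒴 𝒳| → |𝒵| ×_{|𝒴|} |𝒳|` is surjective. -/
theorem exists_points_fp_of_map_eq (h𝒳 : FibCat.IsFibGrpd 𝒳.p) (h𝒴 : FibCat.IsFibGrpd 𝒴.p)
    (h𝒵 : FibCat.IsFibGrpd 𝒵.p) (f : 𝒳 ⥤ᵇ 𝒴) (g : 𝒵 ⥤ᵇ 𝒴)
    (z : AlgSt.Points 𝒵) (x : AlgSt.Points 𝒳)
    (h : AlgSt.Points.map g z = AlgSt.Points.map f x) :
    ∃ w : AlgSt.Points (FibCat.fp g f),
      AlgSt.Points.map (FibCat.fpFst g f) w = z ∧ AlgSt.Points.map (FibCat.fpSnd g f) w = x := by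
  obtain ⟨p, rfl⟩ := AlgSt.Points.mk_surjective z
  obtain ⟨q, rfl⟩ := AlgSt.Points.mk_surjective x
  rw [AlgSt.Points.map_mk, AlgSt.Points.map_mk, mk_eq_mk_iff h𝒴] at h
  obtain ⟨r, a, b, -⟩ := h
  replace a : r.obj ⟶ g.obj p.obj := a
  replace b : r.obj ⟶ f.obj q.obj := b
  -- bases of the two morphisms
  obtain ⟨α, hα⟩ := exists_base (Q := Over.mk p.str) (b := g.obj p.obj) a r.lies (p.map g).lies
  obtain ⟨β, hβ⟩ := exists_base (Q := Over.mk q.str) (b := f.obj q.obj) b r.lies (q.map f).lies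
  -- lifts of `p` and `q` to the field of `r`
  obtain ⟨p', hp', φ, hφ⟩ := exists_fpt_over h𝒵 p r.str α
  obtain ⟨q', hq', ψ, hψ⟩ := exists_fpt_over h𝒳 q r.str β
  -- the comparison isomorphisms in `𝒴`
  have hgφ : 𝒴.p.IsHomLift α (g.map φ) := BasedFunctor.preserves_isHomLift g α φ
  have hfψ : 𝒴.p.IsHomLift β (f.map ψ) := BasedFunctor.preserves_isHomLift f β ψ
  obtain ⟨χ₁, ⟨hχ₁, -⟩, -⟩ := IsFibGrpd.existsUnique 𝒴.p h𝒴 (𝟙 (Over.mk r.str)) α α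
    (Category.id_comp _).symm a (g.map φ)
  obtain ⟨χ₂, ⟨hχ₂, -⟩, -⟩ := IsFibGrpd.existsUnique 𝒴.p h𝒴 (𝟙 (Over.mk r.str)) β β
    (Category.id_comp _).symm (f.map ψ) b
  -- `χ₁ : g p' ⟶ r`, `χ₂ : r ⟶ f q'`, both over the identity
  have hχ : 𝒴.p.IsHomLift (𝟙 (Over.mk r.str)) (χ₁ ≫ χ₂) := by
    have := IsHomLift.comp (p := 𝒴.p) (𝟙 (Over.mk r.str)) (𝟙 (Over.mk r.str)) χ₁ χ₂
    rwa [Category.comp_id] at this
  have hiso : IsIso (χ₁ ≫ χ₂) := IsFibGrpd.isIso_of_isHomLift_id 𝒴.p h𝒴 (S := Over.mk r.str) _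
  let ι : g.obj p' ≅ f.obj q' := asIso (χ₁ ≫ χ₂)
  have hι : 𝒴.p.IsHomLift (𝟙 (𝒵.p.obj p')) ι.hom := by
    rw [hp']
    exact hχ
  let W : (FibCat.fp g f).obj := ⟨{ fst := p', snd := q', iso := ι }, hι⟩
  let wpt : AlgSt.FPt (FibCat.fp g f) := ⟨r.K, r.str, W, hp'⟩
  refine ⟨AlgSt.Points.mk wpt, ?_, ?_⟩
  · rw [AlgSt.Points.map_mk]
    exact AlgSt.Points.sound ⟨wpt.map (FibCat.fpFst g f), 𝟙 _, φ, trivial⟩
  · rw [AlgSt.Points.map_mk]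
    exact AlgSt.Points.sound ⟨wpt.map (FibCat.fpSnd g f), 𝟙 _, ψ, trivial⟩

/-- `S12825`: the base change of a functor surjective on points is surjective on points. -/
theorem isSurjective_fpFst (h𝒳 : FibCat.IsFibGrpd 𝒳.p) (h𝒴 : FibCat.IsFibGrpd 𝒴.p)
    (h𝒵 : FibCat.IsFibGrpd 𝒵.p) (f : 𝒳 ⥤ᵇ 𝒴) (g : 𝒵 ⥤ᵇ 𝒴) (hf : AlgSt.IsSurjective f) :
    AlgSt.IsSurjective (FibCat.fpFst g f) := by
  intro z
  obtain ⟨x, hx⟩ := hf (AlgSt.Points.map g z)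
  obtain ⟨w, hw, -⟩ := exists_points_fp_of_map_eq h𝒳 h𝒴 h𝒵 f g z x hx.symm
  exact ⟨w, hw⟩

end Groth.Agent.Helper2.AlgStLib.Pts
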