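import Mathlib
import Groth.Prelude.Def_AlgSt4
import Groth.Prelude.Def_AlgSp4
import Groth.Agent.Lib.Helper2.AlgSt.Pts.Chart
import Groth.Agent.Lib.Helper2.AlgSt.Pts.Fp
import Groth.Agent.Lib.Helper2.AlgSt.Dict
import Groth.Agent.Lib.Helper2.AlgSt.LocalBase

/-!
# Points of the category of a sheaf versus points of the sheaf (helper2)
-/

set_option autoImplicit false
open CategoryTheory CategoryTheory.Limits AlgebraicGeometry Opposite

universe w₃ v₃ w₂ v₂ w v u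

namespace Groth.Agent.Helper2.AlgStLib.Pts

open Groth.Agent.Helper2 Groth.Agent.Helper2.FibCatLib Groth.Agent.Helper2.StkLib
open Groth.Agent.Helper2.AlgStLib

variable {S : Scheme.{u}}

section Bridge

variable {F G : AlgSp.Sp S}

/-- The field-valued point of the category of `F` attached to a field-valued point of `F`. -/
noncomputable def fptOfFieldPt (p : AlgSp.FieldPt F) : AlgSt.FPt (AlgSt.ofSp F) :=
  ⟨p.K, p.str, ⟨Over.mk p.str, p.val⟩, rfl⟩

theorem rel_fptOfFieldPt_iff (p q : AlgSp.FieldPt F) :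
    AlgSt.FPt.Rel (fptOfFieldPt p) (fptOfFieldPt q) ↔ AlgSp.FieldPt.Rel p q := by
  constructor
  · rintro ⟨⟨Ω, w, ⟨B, s⟩, hB⟩, a, b, -⟩
    change B = Over.mk w at hB
    subst hB
    exact ⟨Ω, inferInstance, w, a.hom, b.hom, a.map_sec.trans b.map_sec.symm⟩
  · rintro ⟨Ω, _, w, a, b, h⟩
    exact ⟨⟨Ω, w, ⟨Over.mk w, F.obj.map a.op p.val⟩, rfl⟩, ⟨a, rfl⟩, ⟨b, h.symm⟩, trivial⟩

/-- The comparison map from the points of a sheaf to the points of its category. -/
noncomputable def spPt (F : AlgSp.Sp S) : AlgSp.Points F → AlgSt.Points (AlgSt.ofSp F) :=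
  Quotient.lift (fun p => AlgSt.Points.mk (fptOfFieldPt p))
    (fun p q h => AlgSt.Points.sound ((rel_fptOfFieldPt_iff p q).2 h))

@[simp] theorem spPt_mk (p : AlgSp.FieldPt F) :
    spPt F (AlgSp.Points.mk p) = AlgSt.Points.mk (fptOfFieldPt p) := rfl

theorem spPt_injective : Function.Injective (spPt F) := by
  intro x y h
  induction x using AlgSp.Points.ind with | h p => ?_
  induction y using AlgSp.Points.ind with | h q => ?_
  rw [spPt_mk, spPt_mk, mk_eq_mk_iff (Stk.isFibGrpd_ofPsh F.obj), rel_fptOfFieldPt_iff] at h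
  exact AlgSp.Points.sound h

theorem spPt_surjective : Function.Surjective (spPt F) := by
  intro w
  obtain ⟨⟨K, str, ⟨B, s⟩, hB⟩, rfl⟩ := AlgSt.Points.mk_surjective w
  change B = Over.mk str at hB
  subst hB
  exact ⟨AlgSp.Points.mk ⟨K, str, s⟩, rfl⟩

/-- The bijection between the points of a sheaf and the points of its category. -/
noncomputable def spPtEquiv (F : AlgSp.Sp S) : AlgSp.Points F ≃ AlgSt.Points (AlgSt.ofSp F) :=
  Equiv.ofBijective (spPt F) ⟨spPt_injective, spPt_surjective⟩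

theorem map_ofSpMap_spPt (a : F ⟶ G) (x : AlgSp.Points F) :
    AlgSt.Points.map (AlgSt.ofSpMap a) (spPt F x) = spPt G (AlgSp.Points.map a x) := by
  induction x using AlgSp.Points.ind with | h p => ?_
  rfl

theorem spPt_ofPt {T : Over S} (g : (AlgSp.yon S).obj T ⟶ F) (t : ↥T.left) :
    spPt F (AlgSp.Points.ofPt g t) = AlgSt.Points.ofChart (ofSecMap g.hom) t := rfl

theorem isSurjectiveMor_iff_ofSpMap (a : F ⟶ G) :
    AlgSp.IsSurjectiveMor a ↔ AlgSt.IsSurjective (AlgSt.ofSpMap a) := by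
  constructor
  · intro h y
    obtain ⟨y', rfl⟩ := spPt_surjective y
    obtain ⟨x', rfl⟩ := h y'
    exact ⟨spPt F x', map_ofSpMap_spPt a x'⟩
  · intro h y
    obtain ⟨x, hx⟩ := h (spPt G y)
    obtain ⟨x', rfl⟩ := spPt_surjective x
    rw [map_ofSpMap_spPt] at hx
    exact ⟨x', spPt_injective hx⟩

theorem injective_iff_ofSpMap (a : F ⟶ G) :
    Function.Injective (AlgSp.Points.map a) ↔
      Function.Injective (AlgSt.Points.map (AlgSt.ofSpMap a)) := by
  constructor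
  · intro h x y hxy
    obtain ⟨x', rfl⟩ := spPt_surjective x
    obtain ⟨y', rfl⟩ := spPt_surjective y
    rw [map_ofSpMap_spPt, map_ofSpMap_spPt] at hxy
    rw [h (spPt_injective hxy)]
  · intro h x y hxy
    apply spPt_injective
    apply h
    rw [map_ofSpMap_spPt, map_ofSpMap_spPt, hxy]

/-- For `Φ : F ⟶ (Sch/U)`, surjectivity of the map of sheaves is surjectivity on points. -/
theorem isSurjectiveMor_spMapOfOver_iff {U : Over S} (Φ : AlgSt.ofSp F ⥤ᵇ FibCat.overCat U) :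
    AlgSp.IsSurjectiveMor (AlgSt.spMapOfOver Φ) ↔ AlgSt.IsSurjective Φ := by
  obtain ⟨θ⟩ := ofSpMap_spMapOfOver_iso Φ
  rw [isSurjectiveMor_iff_ofSpMap]
  constructor
  · intro h
    exact isSurjective_congr θ (isSurjective_comp _ _ h
      (isSurjective_of_isEquivOver _ (toOverCat_isEquivOver U)))
  · intro h
    have h1 : AlgSt.IsSurjective (BasedFunctor.comp (AlgSt.ofSpMap (AlgSt.spMapOfOver Φ))
        (AlgSt.toOverCat U)) := isSurjective_congr θ.symm h
    intro y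
    obtain ⟨x, hx⟩ := h1 (AlgSt.Points.map (AlgSt.toOverCat U) y)
    rw [map_comp] at hx
    exact ⟨x, (bijective_map_of_isEquivOver _ (toOverCat_isEquivOver U)).1 hx⟩

end Bridge

section Surj

variable {𝒳 : BasedCategory.{v, w} (Over S)} {𝒴 : BasedCategory.{v₂, w₂} (Over S)}

theorem map_fpFst_eq_map_fpSnd {𝒵 : BasedCategory.{v₃, w₃} (Over S)} (g : 𝒵 ⥤ᵇ 𝒴) (f : 𝒳 ⥤ᵇ 𝒴)
    (w : AlgSt.Points (FibCat.fp g f)) :
    AlgSt.Points.map g (AlgSt.Points.map (FibCat.fpFst g f) w) =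
      AlgSt.Points.map f (AlgSt.Points.map (FibCat.fpSnd g f) w) := by
  rw [← map_comp, ← map_comp, map_congr (FibCat.fpIso g f)]

/-- One half of `S12819`: representable surjective functors are surjective on points. -/
theorem isSurjective_of_repByAlgSpWith (h𝒴 : FibCat.IsFibGrpd 𝒴.p) (f : 𝒳 ⥤ᵇ 𝒴)
    (hf : AlgSt.RepByAlgSpWith AlgSp.IsSurjectiveMor f) : AlgSt.IsSurjective f := by
  intro y
  obtain ⟨⟨K, str, obj, lies⟩, rfl⟩ := AlgSt.Points.mk_surjective y
  have : 𝒴.p.IsFibered := isFibered_of_isFibGrpd 𝒴.p h𝒴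
  let U : Over S := Over.mk str
  let ŷ : FibCat.overCat U ⥤ᵇ 𝒴 := yonedaFunctor lies
  obtain ⟨ι, -⟩ := yonedaFunctor_obj_id_iso lies
  obtain ⟨F, e, he, hs⟩ := hf U ŷ
  have h1 : AlgSt.IsSurjective (BasedFunctor.comp e (FibCat.fpFst ŷ f)) :=
    (isSurjectiveMor_spMapOfOver_iff _).1 hs
  let u₀ : AlgSt.FPt (FibCat.overCat U) := ⟨K, str, Over.mk (𝟙 U), rfl⟩
  obtain ⟨z, hz⟩ := h1 (AlgSt.Points.mk u₀)
  rw [map_comp] at hz
  refine ⟨AlgSt.Points.map (FibCat.fpSnd ŷ f) (AlgSt.Points.map e z), ?_⟩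
  rw [← map_fpFst_eq_map_fpSnd, hz, AlgSt.Points.map_mk]
  exact mk_eq_of_hom (p := u₀.map ŷ) (q := ⟨K, str, obj, lies⟩) ι.hom

/-- The other half of `S12819`. -/
theorem repByAlgSpWith_of_isSurjective {𝒳 : BasedCategory.{u, u + 1} (Over S)}
    {𝒴 : BasedCategory.{u, u + 1} (Over S)}
    (h𝒳 : FibCat.IsFibGrpd 𝒳.p) (h𝒴 : FibCat.IsFibGrpd 𝒴.p)
    (f : 𝒳 ⥤ᵇ 𝒴) (hf : AlgSt.RepByAlgSp1 f) (hs : AlgSt.IsSurjective f) :
    AlgSt.RepByAlgSpWith AlgSp.IsSurjectiveMor f := by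
  intro U y
  obtain ⟨F, e, he⟩ := hf U y
  refine ⟨F, e, he, (isSurjectiveMor_spMapOfOver_iff _).2 ?_⟩
  exact isSurjective_comp _ _ (isSurjective_of_isEquivOver e he)
    (isSurjective_fpFst h𝒳 h𝒴 (isFibGrpd_overCat U) f y hs)

end Surj

end Groth.Agent.Helper2.AlgStLib.Pts
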