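import Mathlib
import Groth.Prelude.Def_AlgSt4
import Groth.Agent.Lib.Helper2.AlgSt.Pts.Space
import Groth.Agent.Lib.Helper2.AlgSt.FppfLift

/-!
# Scheme atlases of fibre products over a chart (helper2)
-/

set_option autoImplicit false
open CategoryTheory CategoryTheory.Functor CategoryTheory.Limits AlgebraicGeometry Opposite

universe u

namespace Groth.Agent.Helper2.AlgStLib.Pts

open Groth.Agent.Helper2 Groth.Agent.Helper2.FibCatLib Groth.Agent.Helper2.StkLib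
open Groth.Agent.Helper2.AlgSpBasic Groth.Agent.Helper2.EtaleLocal
open Groth.Agent.Helper2.AlgStLib

variable {S : Scheme.{u}} {𝒲 𝒴 : BasedCategory.{u, u + 1} (Over S)}

/-- **Atlas of a fibre product.** If `w : 𝒲 ⟶ 𝒴` is representable by algebraic spaces, flat and
locally of finite presentation, then for every chart `y : (Sch/U) ⟶ 𝒴` the 2-fibre product
`(Sch/U) ×_𝒴 𝒲` receives a functor from a scheme `V₀`, surjective on points, whose composite to
`U` is a flat, locally finitely presented morphism of schemes (surjective if `w` is). -/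
theorem exists_chart_fp (h𝒴 : FibCat.IsFibGrpd 𝒴.p) (w : 𝒲 ⥤ᵇ 𝒴)
    (hw₁ : AlgSt.RepByAlgSpWith (AlgSp.LocP @Flat) w)
    (hw₂ : AlgSt.RepByAlgSpWith (AlgSp.LocP @LocallyOfFinitePresentation) w)
    (U : Over S) (y : FibCat.overCat U ⥤ᵇ 𝒴) :
    ∃ (V₀ : Over S) (c : FibCat.overCat V₀ ⥤ᵇ FibCat.fp y w) (h₀ : V₀ ⟶ U),
      Nonempty (BasedFunctor.comp c (FibCat.fpFst y w) ≅ AlgSt.overMap h₀) ∧
      AlgSt.IsSurjective c ∧ Flat h₀.left ∧ LocallyOfFinitePresentation h₀.left ∧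
      (AlgSt.RepByAlgSpWith AlgSp.IsSurjectiveMor w → Surjective h₀.left) := by
  obtain ⟨F, e, he, -⟩ := hw₁ U y
  let pr₁ : FibCat.fp y w ⥤ᵇ FibCat.overCat U := FibCat.fpFst y w
  let g₁ : AlgSt.ofSp F.obj ⥤ᵇ FibCat.overCat U := BasedFunctor.comp e pr₁
  have hg₁ : ∀ P : MorphismProperty (AlgSp.Sp S), AlgSt.RepByAlgSpWith P w →
      AlgSt.RepByAlgSpWith P g₁ := fun P h =>
    (repByAlgSpWith_of_square P pr₁ g₁ e (BasedFunctor.id (FibCat.overCat U)) he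
      ReprInv.isEquivOver_id (Iso.refl _)).1 (repByAlgSpWith_fpFst P w y h)
  obtain ⟨V₀, x₀, hx1, hx2⟩ := (hasAtlas_ofSp F).2
  have hx1f : AlgSt.RepByAlgSpWith (AlgSp.LocP @Flat) x₀ := by
    intro T t
    obtain ⟨G, eG, heG, hG⟩ := hx1 T t
    exact ⟨G, eG, heG, locP_mono (fun _ _ g (hg : Smooth g) => (inferInstance : Flat g)) hG⟩
  have hx1p : AlgSt.RepByAlgSpWith (AlgSp.LocP @LocallyOfFinitePresentation) x₀ := by
    intro T t
    obtain ⟨G, eG, heG, hG⟩ := hx1 T t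
    exact ⟨G, eG, heG, locP_mono (fun _ _ g (hg : Smooth g) =>
      (inferInstance : LocallyOfFinitePresentation g)) hG⟩
  have hfV : FibCat.IsFibGrpd (FibCat.overCat V₀).p := isFibGrpd_overCat V₀
  have hfF : FibCat.IsFibGrpd (AlgSt.ofSp F.obj).p := Stk.isFibGrpd_ofPsh F.obj.obj
  let Φ : FibCat.overCat V₀ ⥤ᵇ FibCat.overCat U := BasedFunctor.comp x₀ g₁
  have hΦ1 : AlgSt.RepByAlgSpWith (AlgSp.LocP @Flat) Φ :=
    repByAlgSpWith_comp hfV hfF _ (stableBC_locP _) (stableComp_locP _)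
      isLocalOnBase_fppf_locP_flat x₀ g₁ hx1f (hg₁ _ hw₁)
  have hΦ2 : AlgSt.RepByAlgSpWith (AlgSp.LocP @LocallyOfFinitePresentation) Φ :=
    repByAlgSpWith_comp hfV hfF _ (stableBC_locP _) (stableComp_locP _)
      isLocalOnBase_fppf_locP_lfp x₀ g₁ hx1p (hg₁ _ hw₂)
  obtain ⟨θ⟩ := OverFun.nonempty_iso_overMapBased Φ
  let h₀ : V₀ ⟶ U := OverFun.classify Φ
  have θ' : Φ ≅ AlgSt.overMap h₀ := θ
  have k1 : AlgSp.LocP @Flat ((AlgSp.yon S).map h₀) :=
    prop_yon_map_of_repByAlgSpWith_overMap _ (respectsIsoSp_of_stableBC (stableBC_locP _)) h₀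
      ((repByAlgSpWith_congr _ θ').2 hΦ1)
  have k2 : AlgSp.LocP @LocallyOfFinitePresentation ((AlgSp.yon S).map h₀) :=
    prop_yon_map_of_repByAlgSpWith_overMap _ (respectsIsoSp_of_stableBC (stableBC_locP _)) h₀
      ((repByAlgSpWith_congr _ θ').2 hΦ2)
  refine ⟨V₀, BasedFunctor.comp x₀ e, h₀, ⟨θ'⟩, ?_, AlgSp.locP_yon_map k1, AlgSp.locP_yon_map k2,
    ?_⟩
  · exact isSurjective_comp _ _ (isSurjective_of_repByAlgSpWith hfF x₀ hx2)
      (isSurjective_of_isEquivOver e he)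
  · intro hw₃
    have hΦ3 : AlgSt.RepByAlgSpWith AlgSp.IsSurjectiveMor Φ :=
      repByAlgSpWith_comp hfV hfF _ stableBC_isSurjectiveMor stableComp_isSurjectiveMor
        isLocalOnBase_fppf_isSurjectiveMor x₀ g₁ hx2 (hg₁ _ hw₃)
    have k3 : AlgSp.IsSurjectiveMor ((AlgSp.yon S).map h₀) :=
      prop_yon_map_of_repByAlgSpWith_overMap _ (respectsIsoSp_of_stableBC stableBC_isSurjectiveMor)
        h₀ ((repByAlgSpWith_congr _ θ').2 hΦ3)
    exact ⟨(surjectiveMor_yon_map_iff h₀).1 k3⟩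

end Groth.Agent.Helper2.AlgStLib.Pts
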