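import Mathlib
import Groth.Prelude.Def_AlgSt4
import Groth.Agent.Lib.Helper2.AlgSt.Pts.Lift

/-!
# The topology on the points of an algebraic stack (helper2)
-/

set_option autoImplicit false
open CategoryTheory CategoryTheory.Functor CategoryTheory.Limits AlgebraicGeometry Opposite

universe u

namespace Groth.Agent.Helper2.AlgStLib.Pts

open Groth.Agent.Helper2 Groth.Agent.Helper2.FibCatLib Groth.Agent.Helper2.StkLib
open Groth.Agent.Helper2.AlgSpBasic Groth.Agent.Helper2.EtaleLocal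
open Groth.Agent.Helper2.AlgStLib

variable {S : Scheme.{u}} {𝒲 𝒳 𝒴 : BasedCategory.{u, u + 1} (Over S)}

theorem repByAlgSpWith_flat_of_smooth {f : 𝒳 ⥤ᵇ 𝒴}
    (hf : AlgSt.RepByAlgSpWith (AlgSp.LocP @Smooth) f) :
    AlgSt.RepByAlgSpWith (AlgSp.LocP @Flat) f := by
  intro T t
  obtain ⟨G, eG, heG, hG⟩ := hf T t
  exact ⟨G, eG, heG, locP_mono (fun _ _ g (hg : Smooth g) => (inferInstance : Flat g)) hG⟩

theorem repByAlgSpWith_lfp_of_smooth {f : 𝒳 ⥤ᵇ 𝒴}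
    (hf : AlgSt.RepByAlgSpWith (AlgSp.LocP @Smooth) f) :
    AlgSt.RepByAlgSpWith (AlgSp.LocP @LocallyOfFinitePresentation) f := by
  intro T t
  obtain ⟨G, eG, heG, hG⟩ := hf T t
  exact ⟨G, eG, heG, locP_mono (fun _ _ g (hg : Smooth g) =>
    (inferInstance : LocallyOfFinitePresentation g)) hG⟩

/-- A functor between slices acts on points as its classifying morphism. -/
theorem map_slice_ptEquiv {V U : Over S} (Φ : FibCat.overCat V ⥤ᵇ FibCat.overCat U) (t : ↥V.left) :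
    AlgSt.Points.map Φ (ptEquiv V t) = ptEquiv U ((OverFun.classify Φ).left t) := by
  obtain ⟨θ⟩ := OverFun.nonempty_iso_overMapBased Φ
  have θ' : Φ ≅ AlgSt.overMap (OverFun.classify Φ) := θ
  rw [map_congr θ', map_overMap_ptEquiv]

section Square

variable {U V₀ : Over S} (y : FibCat.overCat U ⥤ᵇ 𝒴) (w : 𝒲 ⥤ᵇ 𝒴)
  (c : FibCat.overCat V₀ ⥤ᵇ FibCat.fp y w) (h₀ : V₀ ⟶ U)
  (θ : BasedFunctor.comp c (FibCat.fpFst y w) ≅ AlgSt.overMap h₀)

include θ in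
theorem map_fpFst_chart (t : ↥V₀.left) :
    AlgSt.Points.map (FibCat.fpFst y w) (AlgSt.Points.map c (ptEquiv V₀ t)) =
      ptEquiv U (h₀.left t) := by
  rw [← map_comp, map_congr θ, map_overMap_ptEquiv]

include θ in
/-- The square of points attached to an atlas of a fibre product commutes. -/
theorem chart_square (t : ↥V₀.left) :
    AlgSt.Points.ofChart y (h₀.left t) =
      AlgSt.Points.map w (AlgSt.Points.map (FibCat.fpSnd y w)
        (AlgSt.Points.map c (ptEquiv V₀ t))) := by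
  rw [← map_fpFst_eq_map_fpSnd, map_fpFst_chart y w c h₀ θ, ← ofChart_eq_map_ptEquiv]

end Square

/-- **Key lemma.** Every scheme chart of an algebraic stack is continuous on points. -/
theorem continuous_ofChart (h𝒴 : AlgSt.IsAlgStack Scheme.fppfPrecoverage 𝒴) {U : Over S}
    (y : FibCat.overCat U ⥤ᵇ 𝒴) : Continuous (AlgSt.Points.ofChart y) := by
  obtain ⟨V, v, hv1, hv2⟩ := h𝒴.atlas
  obtain ⟨V₀, c, h₀, ⟨θ⟩, -, hfl, hfp, hsurj⟩ := exists_chart_fp h𝒴.isStack.1 v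
    (repByAlgSpWith_flat_of_smooth hv1) (repByAlgSpWith_lfp_of_smooth hv1) U y
  have hs : Surjective h₀.left := hsurj hv2
  let ψ : V₀ ⟶ V := OverFun.classify (BasedFunctor.comp c (FibCat.fpSnd y v))
  have key : ∀ t : ↥V₀.left, AlgSt.Points.ofChart y (h₀.left t) =
      AlgSt.Points.ofChart v (ψ.left t) := by
    intro t
    rw [chart_square y v c h₀ θ t, ← map_comp c, map_slice_ptEquiv, ← ofChart_eq_map_ptEquiv]
  refine continuous_def.2 fun W hW => ?_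
  have h1 : IsOpen (ψ.left ⁻¹' (AlgSt.Points.ofChart v ⁻¹' W)) :=
    (hW V v hv1).preimage ψ.left.continuous
  have h2 : h₀.left ⁻¹' (AlgSt.Points.ofChart y ⁻¹' W) =
      ψ.left ⁻¹' (AlgSt.Points.ofChart v ⁻¹' W) := by
    ext t
    simp only [Set.mem_preimage, key t]
  have h3 : AlgSt.Points.ofChart y ⁻¹' W =
      h₀.left '' (h₀.left ⁻¹' (AlgSt.Points.ofChart y ⁻¹' W)) :=
    (Set.image_preimage_eq _ hs.surj).symm
  rw [h3, h2]
  exact h₀.left.isOpenMap _ h1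

/-- `S12820`. -/
theorem continuous_map (h𝒴 : AlgSt.IsAlgStack Scheme.fppfPrecoverage 𝒴) (f : 𝒳 ⥤ᵇ 𝒴) :
    Continuous (AlgSt.Points.map f) := by
  refine continuous_def.2 fun W hW U x _ => ?_
  have : AlgSt.Points.ofChart x ⁻¹' (AlgSt.Points.map f ⁻¹' W) =
      AlgSt.Points.ofChart (BasedFunctor.comp x f) ⁻¹' W := rfl
  rw [this]
  exact hW.preimage (continuous_ofChart h𝒴 _)

/-- Flat, locally finitely presented scheme charts are open on points. -/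
theorem isOpenMap_ofChart (h𝒳 : FibCat.IsFibGrpd 𝒳.p) {U : Over S}
    (x : FibCat.overCat U ⥤ᵇ 𝒳) (hx₁ : AlgSt.RepByAlgSpWith (AlgSp.LocP @Flat) x)
    (hx₂ : AlgSt.RepByAlgSpWith (AlgSp.LocP @LocallyOfFinitePresentation) x) :
    IsOpenMap (AlgSt.Points.ofChart x) := by
  intro U' hU' V v _
  obtain ⟨V₀, c, h₀, ⟨θ⟩, hc, hfl, hfp, -⟩ := exists_chart_fp h𝒳 x hx₁ hx₂ V v
  let φ : V₀ ⟶ U := OverFun.classify (BasedFunctor.comp c (FibCat.fpSnd v x))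
  have hφ : ∀ t₀ : ↥V₀.left, AlgSt.Points.map (FibCat.fpSnd v x)
      (AlgSt.Points.map c (ptEquiv V₀ t₀)) = ptEquiv U (φ.left t₀) := by
    intro t₀
    rw [← map_comp c, map_slice_ptEquiv]
  have key : AlgSt.Points.ofChart v ⁻¹' (AlgSt.Points.ofChart x '' U') =
      h₀.left '' (φ.left ⁻¹' U') := by
    ext t
    constructor
    · rintro ⟨t', ht', h⟩
      have h' : AlgSt.Points.map v (ptEquiv V t) = AlgSt.Points.map x (ptEquiv U t') := h.symm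
      obtain ⟨ω, hω1, hω2⟩ := exists_points_fp_of_map_eq (isFibGrpd_overCat U) h𝒳
        (isFibGrpd_overCat V) x v _ _ h'
      obtain ⟨ω₀, rfl⟩ := hc ω
      obtain ⟨t₀, rfl⟩ := (ptEquiv V₀).surjective ω₀
      rw [map_fpFst_chart v x c h₀ θ] at hω1
      rw [hφ] at hω2
      refine ⟨t₀, ?_, (ptEquiv V).injective hω1⟩
      change φ.left t₀ ∈ U'
      rw [(ptEquiv U).injective hω2]
      exact ht'
    · rintro ⟨t₀, ht₀, rfl⟩
      refine ⟨φ.left t₀, ht₀, ?_⟩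
      rw [chart_square v x c h₀ θ t₀, hφ, ← ofChart_eq_map_ptEquiv]
  rw [key]
  exact h₀.left.isOpenMap _ (hU'.preimage φ.left.continuous)

/-- `S12822`. -/
theorem continuous_and_isOpenMap_ofChart (h𝒳 : AlgSt.IsAlgStack Scheme.fppfPrecoverage 𝒳)
    {U : Over S} (x : FibCat.overCat U ⥤ᵇ 𝒳)
    (hx₁ : AlgSt.RepByAlgSpWith (AlgSp.LocP @Flat) x)
    (hx₂ : AlgSt.RepByAlgSpWith (AlgSp.LocP @LocallyOfFinitePresentation) x) :
    Continuous (AlgSt.Points.ofChart x) ∧ IsOpenMap (AlgSt.Points.ofChart x) :=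
  ⟨continuous_ofChart h𝒳 x, isOpenMap_ofChart h𝒳.isStack.1 x hx₁ hx₂⟩

/-- Surjective charts are surjective on points. -/
theorem surjective_ofChart (h𝒳 : FibCat.IsFibGrpd 𝒳.p) {U : Over S}
    (x : FibCat.overCat U ⥤ᵇ 𝒳) (hx : AlgSt.RepByAlgSpWith AlgSp.IsSurjectiveMor x) :
    Function.Surjective (AlgSt.Points.ofChart x) := by
  intro p
  obtain ⟨ω, rfl⟩ := isSurjective_of_repByAlgSpWith h𝒳 x hx p
  obtain ⟨t, rfl⟩ := (ptEquiv U).surjective ω
  exact ⟨t, rfl⟩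

/-- `S12821`. -/
theorem isOpenMap_map_of_space (h𝒳 : FibCat.IsFibGrpd 𝒳.p) (F : AlgSp.Space S)
    (f : AlgSt.ofSp F.obj ⥤ᵇ 𝒳) (hf₁ : AlgSt.RepByAlgSpWith (AlgSp.LocP @Flat) f)
    (hf₂ : AlgSt.RepByAlgSpWith (AlgSp.LocP @LocallyOfFinitePresentation) f) :
    IsOpenMap (AlgSt.Points.map f) := by
  obtain ⟨V₁, x₁, hx1, hx2⟩ := (hasAtlas_ofSp F).2
  have hfV : FibCat.IsFibGrpd (FibCat.overCat V₁).p := isFibGrpd_overCat V₁
  have hfF : FibCat.IsFibGrpd (AlgSt.ofSp F.obj).p := Stk.isFibGrpd_ofPsh F.obj.obj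
  have h1 : AlgSt.RepByAlgSpWith (AlgSp.LocP @Flat) (BasedFunctor.comp x₁ f) :=
    repByAlgSpWith_comp hfV hfF _ (stableBC_locP _) (stableComp_locP _)
      isLocalOnBase_fppf_locP_flat x₁ f (repByAlgSpWith_flat_of_smooth hx1) hf₁
  have h2 : AlgSt.RepByAlgSpWith (AlgSp.LocP @LocallyOfFinitePresentation)
      (BasedFunctor.comp x₁ f) :=
    repByAlgSpWith_comp hfV hfF _ (stableBC_locP _) (stableComp_locP _)
      isLocalOnBase_fppf_locP_lfp x₁ f (repByAlgSpWith_lfp_of_smooth hx1) hf₂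
  intro W hW
  have key : AlgSt.Points.map f '' W =
      AlgSt.Points.ofChart (BasedFunctor.comp x₁ f) '' (AlgSt.Points.ofChart x₁ ⁻¹' W) := by
    ext q
    constructor
    · rintro ⟨p, hp, rfl⟩
      obtain ⟨t, rfl⟩ := surjective_ofChart hfF x₁ hx2 p
      exact ⟨t, hp, rfl⟩
    · rintro ⟨t, ht, rfl⟩
      exact ⟨AlgSt.Points.ofChart x₁ t, ht, rfl⟩
  rw [key]
  exact isOpenMap_ofChart h𝒳 _ h1 h2 _ (hW V₁ x₁ hx1)

/-- `S12823`. -/
theorem isOpen_iff_preimage_of_space (h𝒳 : AlgSt.IsAlgStack Scheme.fppfPrecoverage 𝒳)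
    (F : AlgSp.Space S) (p : AlgSt.ofSp F.obj ⥤ᵇ 𝒳)
    (hp₁ : AlgSt.RepByAlgSpWith (AlgSp.LocP @Flat) p)
    (hp₂ : AlgSt.RepByAlgSpWith (AlgSp.LocP @LocallyOfFinitePresentation) p)
    (hp₃ : AlgSt.RepByAlgSpWith AlgSp.IsSurjectiveMor p) (W : Set (AlgSt.Points 𝒳)) :
    IsOpen W ↔ IsOpen (AlgSt.Points.map p ⁻¹' W) := by
  constructor
  · intro hW
    exact hW.preimage (continuous_map h𝒳 p)
  · intro hW
    have hs : Function.Surjective (AlgSt.Points.map p) :=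
      isSurjective_of_repByAlgSpWith h𝒳.isStack.1 p hp₃
    rw [← Set.image_preimage_eq W hs]
    exact isOpenMap_map_of_space h𝒳.isStack.1 F p hp₁ hp₂ _ hW

/-- `S12824`. -/
theorem exists_isOpen_isCompact_nhd (h𝒳 : AlgSt.IsAlgStack Scheme.fppfPrecoverage 𝒳)
    (x : AlgSt.Points 𝒳) (W : Set (AlgSt.Points 𝒳)) (hW : IsOpen W) (hx : x ∈ W) :
    ∃ V : Set (AlgSt.Points 𝒳), IsOpen V ∧ IsCompact V ∧ x ∈ V ∧ V ⊆ W := by
  obtain ⟨V, v, hv1, hv2⟩ := h𝒳.atlas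
  obtain ⟨t, rfl⟩ := surjective_ofChart h𝒳.isStack.1 v hv2 x
  have hc := continuous_ofChart h𝒳 v
  have ho := isOpenMap_ofChart h𝒳.isStack.1 v (repByAlgSpWith_flat_of_smooth hv1)
    (repByAlgSpWith_lfp_of_smooth hv1)
  have hpre : IsOpen (AlgSt.Points.ofChart v ⁻¹' W) := hW.preimage hc
  obtain ⟨_, ⟨V', hV'a : IsAffineOpen V', rfl⟩, htV', hV'W⟩ :=
    (V.left.isBasis_affineOpens).exists_subset_of_mem_open (show t ∈ _ from hx) hpre
  refine ⟨AlgSt.Points.ofChart v '' (V' : Set ↥V.left), ho _ V'.2,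
    hV'a.isCompact.image hc, ⟨t, htV', rfl⟩, ?_⟩
  rintro _ ⟨s, hs, rfl⟩
  exact hV'W hs

end Groth.Agent.Helper2.AlgStLib.Pts
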