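import Mathlib
import Groth.Prelude.Def_AlgSt4
import Groth.Agent.Lib.Helper2.AlgSt.Pts.Top
import Groth.Agent.Lib.Helper2.AlgSt.Space

/-!
# Homeomorphisms between spaces of points (helper2)
-/

set_option autoImplicit false
open CategoryTheory CategoryTheory.Functor CategoryTheory.Limits AlgebraicGeometry Opposite

universe u

namespace Groth.Agent.Helper2.AlgStLib.Pts

open Groth.Agent.Helper2 Groth.Agent.Helper2.FibCatLib Groth.Agent.Helper2.StkLib
open Groth.Agent.Helper2.AlgSpBasic Groth.Agent.Helper2.EtaleLocal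
open Groth.Agent.Helper2.AlgStLib

variable {S : Scheme.{u}} {𝒜 ℬ 𝒳 𝒴 : BasedCategory.{u, u + 1} (Over S)}

/-- An equivalence over the base between algebraic stacks is a homeomorphism on points. -/
theorem isHomeomorph_map_of_isEquivOver (e : 𝒜 ⥤ᵇ ℬ) (he : FibCat.IsEquivOver e)
    (hℬ : AlgSt.IsAlgStack Scheme.fppfPrecoverage ℬ) : IsHomeomorph (AlgSt.Points.map e) := by
  have h𝒜 : AlgSt.IsAlgStack Scheme.fppfPrecoverage 𝒜 :=
    (isAlgStack_iff_of_isEquivOver _ e he).2 hℬ
  obtain ⟨e', ⟨η⟩, ⟨ε⟩⟩ := he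
  rw [isHomeomorph_iff_exists_inverse]
  refine ⟨continuous_map hℬ e, AlgSt.Points.map e', ?_, ?_, continuous_map h𝒜 e'⟩
  · intro x
    rw [← map_comp, map_congr η, map_id]
  · intro y
    rw [← map_comp, map_congr ε, map_id]

/-- The homeomorphism on points of an equivalence between algebraic stacks. -/
noncomputable def homeoOfEquivOver (e : 𝒜 ⥤ᵇ ℬ) (he : FibCat.IsEquivOver e)
    (hℬ : AlgSt.IsAlgStack Scheme.fppfPrecoverage ℬ) : AlgSt.Points 𝒜 ≃ₜ AlgSt.Points ℬ :=
  (isHomeomorph_map_of_isEquivOver e he hℬ).homeomorph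

@[simp] theorem homeoOfEquivOver_apply (e : 𝒜 ⥤ᵇ ℬ) (he : FibCat.IsEquivOver e)
    (hℬ : AlgSt.IsAlgStack Scheme.fppfPrecoverage ℬ) (x : AlgSt.Points 𝒜) :
    homeoOfEquivOver e he hℬ x = AlgSt.Points.map e x := rfl

theorem isAlgStack_ofSp (F : AlgSp.Space S) :
    AlgSt.IsAlgStack Scheme.fppfPrecoverage (AlgSt.ofSp F.obj) := (isDM_ofSp F).1

theorem isAlgStack_overCat (U : Over S) :
    AlgSt.IsAlgStack Scheme.fppfPrecoverage (FibCat.overCat U) :=
  (isDM_of_repByAlgSp (repByAlgSp_overCat U)).1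

theorem ofChart_congr_of_hom {U : Over S} {x x' : FibCat.overCat U ⥤ᵇ 𝒳}
    (α : ∀ A : Over U, x.obj A ⟶ x'.obj A) : AlgSt.Points.ofChart x = AlgSt.Points.ofChart x' := by
  funext t
  exact mk_eq_of_hom (p := ⟨_, _, _, _⟩) (q := ⟨_, _, _, _⟩) (α _)

/-- Every chart of the category of a sheaf comes from a map of sheaves. -/
theorem exists_ofChart_eq_spPt_ofPt (F : AlgSp.Sp S) {T : Over S}
    (x : FibCat.overCat T ⥤ᵇ AlgSt.ofSp F) :
    ∃ g : (AlgSp.yon S).obj T ⟶ F, ∀ t, AlgSt.Points.ofChart x t = spPt F (AlgSp.Points.ofPt g t) := by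
  obtain ⟨θ⟩ := secMap_iso x
  refine ⟨ObjectProperty.homMk (secMap x), fun t => ?_⟩
  rw [spPt_ofPt]
  refine congrFun (ofChart_congr_of_hom (x := x)
    (x' := ofSecMap (ObjectProperty.homMk (secMap x) : (AlgSp.yon S).obj T ⟶ F).hom) ?_) t
  intro A
  exact θ.inv.toNatTrans.app ((AlgSt.ofOverCat T).obj A)

/-- For an algebraic space the comparison of points is a homeomorphism. -/
theorem isHomeomorph_spPt (F : AlgSp.Space S) : IsHomeomorph (spPt F.obj) := by
  refine ⟨?_, ?_, spPt_injective, spPt_surjective⟩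
  · refine continuous_def.2 fun W hW => AlgSp.Points.isOpen_iff.2 fun T g => ?_
    have : AlgSp.Points.ofPt g ⁻¹' (spPt F.obj ⁻¹' W) =
        AlgSt.Points.ofChart (ofSecMap g.hom) ⁻¹' W := rfl
    rw [this]
    exact hW.preimage (continuous_ofChart (isAlgStack_ofSp F) _)
  · intro W' hW' T x _
    obtain ⟨g, hg⟩ := exists_ofChart_eq_spPt_ofPt F.obj x
    have : AlgSt.Points.ofChart x ⁻¹' (spPt F.obj '' W') = AlgSp.Points.ofPt g ⁻¹' W' := by
      ext t
      simp only [Set.mem_preimage, hg t]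
      exact spPt_injective.mem_set_image
    rw [this]
    exact hW'.preimage (AlgSp.Points.continuous_ofPt g)

/-- The homeomorphism between the points of an algebraic space and of its category. -/
noncomputable def spPtHomeo (F : AlgSp.Space S) :
    AlgSp.Points F.obj ≃ₜ AlgSt.Points (AlgSt.ofSp F.obj) :=
  (isHomeomorph_spPt F).homeomorph

@[simp] theorem spPtHomeo_apply (F : AlgSp.Space S) (x : AlgSp.Points F.obj) :
    spPtHomeo F x = spPt F.obj x := rfl

/-- The points of the slice `(Sch/U)` are homeomorphic to `U`. -/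
theorem isHomeomorph_ptEquiv (U : Over S) : IsHomeomorph (ptEquiv U) := by
  refine ⟨continuous_ofChart (isAlgStack_overCat U) _, ?_, (ptEquiv U).injective,
    (ptEquiv U).surjective⟩
  intro U' hU' T x _
  have : AlgSt.Points.ofChart x ⁻¹' (ptEquiv U '' U') = (OverFun.classify x).left ⁻¹' U' := by
    ext t
    simp only [Set.mem_preimage]
    rw [ofChart_eq_map_ptEquiv, map_slice_ptEquiv]
    exact (ptEquiv U).injective.mem_set_image
  rw [this]
  exact hU'.preimage (OverFun.classify x).left.continuous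

/-- The homeomorphism between a scheme and the points of its slice. -/
noncomputable def ptHomeo (U : Over S) : ↥U.left ≃ₜ AlgSt.Points (FibCat.overCat U) :=
  (isHomeomorph_ptEquiv U).homeomorph

@[simp] theorem ptHomeo_apply (U : Over S) (t : ↥U.left) : ptHomeo U t = ptEquiv U t := rfl

/-- Smooth (more generally flat, locally finitely presented) charts are open on points. -/
theorem isOpenMap_map_chart (h𝒳 : FibCat.IsFibGrpd 𝒳.p) {U : Over S}
    (x : FibCat.overCat U ⥤ᵇ 𝒳) (hx₁ : AlgSt.RepByAlgSpWith (AlgSp.LocP @Flat) x)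
    (hx₂ : AlgSt.RepByAlgSpWith (AlgSp.LocP @LocallyOfFinitePresentation) x) :
    IsOpenMap (AlgSt.Points.map x) := by
  have : AlgSt.Points.map x = AlgSt.Points.ofChart x ∘ (ptHomeo U).symm := by
    funext ω
    obtain ⟨t, rfl⟩ := (ptHomeo U).surjective ω
    rw [Function.comp_apply, Homeomorph.symm_apply_apply, ofChart_eq_map_ptEquiv, ptHomeo_apply]
  rw [this]
  exact (isOpenMap_ofChart h𝒳 x hx₁ hx₂).comp (ptHomeo U).symm.isOpenMap

end Groth.Agent.Helper2.AlgStLib.Pts
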