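import Mathlib
import Groth.Prelude.Def_AlgSt4
import Groth.Agent.Lib.Helper2.AlgSt.Pts.Homeo
import Groth.Agent.Lib.Helper2.AlgSt.QC2
import Groth.Agent.Lib.Helper2.Top.SpectralQuot

/-!
# Spectrality of the space of points of an algebraic stack with quasi-compact diagonal (helper2)
-/

set_option autoImplicit false
open CategoryTheory CategoryTheory.Functor CategoryTheory.Limits AlgebraicGeometry Opposite

universe u

namespace Groth.Agent.Helper2.AlgStLib.Pts

open Groth.Agent.Helper2 Groth.Agent.Helper2.FibCatLib Groth.Agent.Helper2.StkLib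
open Groth.Agent.Helper2.AlgSpBasic Groth.Agent.Helper2.EtaleLocal
open Groth.Agent.Helper2.AlgStLib

variable {S : Scheme.{u}} {𝒳 𝒴 𝒵 : BasedCategory.{u, u + 1} (Over S)}

/-- If `f ⋙ g` is quasi-compact and the diagonal of `g` is quasi-compact, then `f` is
quasi-compact. -/
theorem isQuasiCompactMor_of_comp_of_qc_diag
    (h𝒳 : AlgSt.IsAlgStack Scheme.fppfPrecoverage 𝒳)
    (h𝒴 : AlgSt.IsAlgStack Scheme.fppfPrecoverage 𝒴)
    (h𝒵 : AlgSt.IsAlgStack Scheme.fppfPrecoverage 𝒵) (f : 𝒳 ⥤ᵇ 𝒴) (g : 𝒴 ⥤ᵇ 𝒵)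
    (hfg : AlgSt.IsQuasiCompactMor Scheme.fppfPrecoverage (BasedFunctor.comp f g))
    (hg : AlgSt.RepByAlgSpWith AlgSp.IsQuasiCompactMor (FibCat.diag g)) :
    AlgSt.IsQuasiCompactMor Scheme.fppfPrecoverage f := by
  have hΓ : AlgSt.RepByAlgSpWith AlgSp.IsQuasiCompactMor (graphOver f g) :=
    repByAlgSpWith_graphOver _ f g hg
  have hfp : AlgSt.IsAlgStack Scheme.fppfPrecoverage (FibCat.fp (BasedFunctor.comp f g) g) :=
    isAlgStack_fp _ h𝒳 h𝒴 h𝒵 _ _
  have hΓ' : AlgSt.IsQuasiCompactMor Scheme.fppfPrecoverage (graphOver f g) :=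
    (repByAlgSpWith_isQuasiCompactMor_iff h𝒳.isStack.1 hfp.isStack.1 _
      (repByAlgSp1_of_repByAlgSpWith _ hΓ)).1 hΓ
  have h2 : AlgSt.IsQuasiCompactMor Scheme.fppfPrecoverage
      (FibCat.fpSnd (BasedFunctor.comp f g) g) :=
    isQuasiCompactMor_fpSnd _ (BasedFunctor.comp f g) g hfg
  have h3 := isQuasiCompactMor_comp _ hfp h𝒴 _ _ hΓ' h2
  rw [graphOver_snd] at h3
  exact h3

section Chart

variable [QuasiSeparatedSpace ↥S] (h𝒳 : AlgSt.IsAlgStack Scheme.fppfPrecoverage 𝒳)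
  (hΔ : AlgSt.RepByAlgSpWith AlgSp.IsQuasiCompactMor (FibCat.diag (FibCat.toSelf 𝒳)))
  (U : Over S) (hU : IsAffine U.left) (u : FibCat.overCat U ⥤ᵇ 𝒳)

include h𝒳 hΔ hU in
/-- A chart from an affine scheme to a stack with quasi-compact diagonal is quasi-compact. -/
theorem isQuasiCompactMor_chart : AlgSt.IsQuasiCompactMor Scheme.fppfPrecoverage u := by
  refine isQuasiCompactMor_of_comp_of_qc_diag (isAlgStack_overCat U) h𝒳 isAlgStack_selfOver u
    (FibCat.toSelf 𝒳) ?_ hΔ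
  rw [comp_toSelf]
  exact isQuasiCompactMor_toSelf (isFibGrpd_overCat U) (isQuasiCompact_overCat U hU)

include h𝒳 hΔ hU in
/-- The equivalence relation of a chart from an affine scheme is the image of an affine scheme. -/
theorem exists_relation_chart :
    ∃ (R' : Over S) (s' t' : R' ⟶ U), IsAffine R'.left ∧
      ∀ a b : ↥U.left, AlgSt.Points.ofChart u a = AlgSt.Points.ofChart u b ↔
        ∃ ρ : ↥R'.left, s'.left ρ = a ∧ t'.left ρ = b := by
  have hqc : AlgSt.IsQuasiCompact (FibCat.fp u u) :=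
    isQuasiCompactMor_chart h𝒳 hΔ U hU u (FibCat.overCat U) (isAlgStack_overCat U)
      (isQuasiCompact_overCat U hU) u
  obtain ⟨R', r, hR', -, hr2⟩ := hqc
  have hfp : FibCat.IsFibGrpd (FibCat.fp u u).p :=
    (isAlgStack_fp _ (isAlgStack_overCat U) (isAlgStack_overCat U) h𝒳 u u).isStack.1
  have hrs : AlgSt.IsSurjective r := isSurjective_of_repByAlgSpWith hfp r hr2
  refine ⟨R', OverFun.classify (BasedFunctor.comp r (FibCat.fpFst u u)),
    OverFun.classify (BasedFunctor.comp r (FibCat.fpSnd u u)), hR', fun a b => ?_⟩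
  have h1 : ∀ ρ : ↥R'.left, AlgSt.Points.map (FibCat.fpFst u u)
      (AlgSt.Points.map r (ptEquiv R' ρ)) = ptEquiv U
        ((OverFun.classify (BasedFunctor.comp r (FibCat.fpFst u u))).left ρ) := fun ρ => by
    rw [← map_comp r, map_slice_ptEquiv]
  have h2 : ∀ ρ : ↥R'.left, AlgSt.Points.map (FibCat.fpSnd u u)
      (AlgSt.Points.map r (ptEquiv R' ρ)) = ptEquiv U
        ((OverFun.classify (BasedFunctor.comp r (FibCat.fpSnd u u))).left ρ) := fun ρ => by
    rw [← map_comp r, map_slice_ptEquiv]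
  constructor
  · intro hab
    have hab' : AlgSt.Points.map u (ptEquiv U a) = AlgSt.Points.map u (ptEquiv U b) := hab
    obtain ⟨ω, hω1, hω2⟩ := exists_points_fp_of_map_eq (isFibGrpd_overCat U) h𝒳.isStack.1
      (isFibGrpd_overCat U) u u _ _ hab'
    obtain ⟨ω₀, rfl⟩ := hrs ω
    obtain ⟨ρ, rfl⟩ := (ptEquiv R').surjective ω₀
    rw [h1] at hω1
    rw [h2] at hω2
    exact ⟨ρ, (ptEquiv U).injective hω1, (ptEquiv U).injective hω2⟩
  · rintro ⟨ρ, rfl, rfl⟩
    rw [ofChart_eq_map_ptEquiv, ofChart_eq_map_ptEquiv, ← h1, ← h2]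
    exact map_fpFst_eq_map_fpSnd u u _

end Chart

instance spectralSpace_of_isAffine (X : Scheme.{u}) [IsAffine X] : SpectralSpace ↥X := {}

section Main

variable [QuasiSeparatedSpace ↥S] (h𝒳 : AlgSt.IsAlgStack Scheme.fppfPrecoverage 𝒳)
  (hΔ : AlgSt.RepByAlgSpWith AlgSp.IsQuasiCompactMor (FibCat.diag (FibCat.toSelf 𝒳)))

include h𝒳 hΔ in
/-- The image of a smooth chart from an affine scheme is a spectral space. -/
theorem spectralSpace_range_ofChart (U : Over S) (hU : IsAffine U.left)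
    (u : FibCat.overCat U ⥤ᵇ 𝒳) (hu : AlgSt.RepByAlgSpWith (AlgSp.LocP @Smooth) u) :
    SpectralSpace ↥(Set.range (AlgSt.Points.ofChart u)) := by
  obtain ⟨R', s', t', hR', hE⟩ := exists_relation_chart h𝒳 hΔ U hU u
  have hc := continuous_ofChart h𝒳 u
  have ho := isOpenMap_ofChart h𝒳.isStack.1 u (repByAlgSpWith_flat_of_smooth hu)
    (repByAlgSpWith_lfp_of_smooth hu)
  let p : ↥U.left → ↥(Set.range (AlgSt.Points.ofChart u)) :=
    fun a => ⟨AlgSt.Points.ofChart u a, a, rfl⟩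
  have hpc : Continuous p := hc.subtype_mk _
  have hpo : IsOpenMap p := by
    intro A hA
    have : p '' A = Subtype.val ⁻¹' (AlgSt.Points.ofChart u '' A) := by
      ext ⟨y, hy⟩
      constructor
      · rintro ⟨a, ha, h⟩
        exact ⟨a, ha, congrArg Subtype.val h⟩
      · rintro ⟨a, ha, h⟩
        exact ⟨a, ha, Subtype.ext h⟩
    rw [this]
    exact (ho A hA).preimage continuous_subtype_val
  have hps : Function.Surjective p := by
    rintro ⟨_, a, rfl⟩
    exact ⟨a, rfl⟩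
  exact SpectralQuot.spectralSpace_quot (s'.left : ↥R'.left → ↥U.left) t'.left
    s'.left.isSpectralMap t'.left.isSpectralMap p hpc hpo hps
    (fun a b => by
      rw [← hE a b]
      exact ⟨fun h => congrArg Subtype.val h, fun h => Subtype.ext h⟩)

include h𝒳 hΔ in
/-- `S12834`. -/
theorem spectralSpace_points (hqc : AlgSt.IsQuasiCompact 𝒳) : SpectralSpace (AlgSt.Points 𝒳) := by
  obtain ⟨U, u, hU, hu1, hu2⟩ := hqc
  obtain ⟨R', s', t', hR', hE⟩ := exists_relation_chart h𝒳 hΔ U hU u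
  exact SpectralQuot.spectralSpace_quot (s'.left : ↥R'.left → ↥U.left) t'.left
    s'.left.isSpectralMap t'.left.isSpectralMap (AlgSt.Points.ofChart u)
    (continuous_ofChart h𝒳 u)
    (isOpenMap_ofChart h𝒳.isStack.1 u (repByAlgSpWith_flat_of_smooth hu1)
      (repByAlgSpWith_lfp_of_smooth hu1))
    (surjective_ofChart h𝒳.isStack.1 u hu2) hE

end Main

/-- Composition with a smooth morphism of schemes is a smooth functor between slices. -/
theorem repByAlgSpWith_smooth_overMap {U V : Over S} (j : U ⟶ V) [Smooth j.left] :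
    AlgSt.RepByAlgSpWith (AlgSp.LocP @Smooth) (AlgSt.overMap j) := by
  have hp : AlgSp.RepWith @Smooth ((AlgSp.yon S).map j) :=
    (AlgSp.repWith_yon_map_iff @Smooth j).2 inferInstance
  have h1 : AlgSt.RepByAlgSpWith (AlgSp.LocP @Smooth) (ofSecMap ((AlgSp.yon S).map j).hom) := by
    apply repByAlgSpWith_ofSecMap_of_representable ((AlgSp.yon S).map j) hp.rep
    intro T W g ξ fst sq
    have hs : Smooth g.left := hp.property ξ fst g sq
    exact locP_of_repWith @Smooth (AlgSp.IsAlgSpace.yon_obj W).diag _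
      ((AlgSp.repWith_yon_map_iff @Smooth g).2 hs)
  have h2 : AlgSt.RepByAlgSpWith (AlgSp.LocP @Smooth)
      (BasedFunctor.comp (ofSecMap ((AlgSp.yon S).map j).hom) (AlgSt.toOverCat V)) :=
    (repByAlgSpWith_comp_equiv _ _ _ (toOverCat_isEquivOver V)).2 h1
  exact (repByAlgSpWith_congr _ (ofSecMapYonIso j)).2 h2

section Local

variable [QuasiSeparatedSpace ↥S] (h𝒳 : AlgSt.IsAlgStack Scheme.fppfPrecoverage 𝒳)
  (hΔ : AlgSt.RepByAlgSpWith AlgSp.IsQuasiCompactMor (FibCat.diag (FibCat.toSelf 𝒳)))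

include h𝒳 hΔ in
/-- Every point of an algebraic stack with quasi-compact diagonal has a spectral open
neighbourhood. -/
theorem exists_isOpen_spectralSpace_nhd (x : AlgSt.Points 𝒳) :
    ∃ W : Set (AlgSt.Points 𝒳), IsOpen W ∧ x ∈ W ∧ SpectralSpace ↥W := by
  obtain ⟨V, v, hv1, hv2⟩ := h𝒳.atlas
  obtain ⟨t₀, rfl⟩ := surjective_ofChart h𝒳.isStack.1 v hv2 x
  obtain ⟨_, ⟨V', hV'a : IsAffineOpen V', rfl⟩, ht₀, -⟩ :=
    (V.left.isBasis_affineOpens).exists_subset_of_mem_open (Set.mem_univ t₀) isOpen_univ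
  let V'' : V.left.Opens := V'
  let U : Over S := Over.mk (V''.ι ≫ V.hom)
  let j : U ⟶ V := Over.homMk V''.ι rfl
  have hU : IsAffine U.left := hV'a
  have hj : Smooth j.left := (inferInstance : Smooth V''.ι)
  let u : FibCat.overCat U ⥤ᵇ 𝒳 := BasedFunctor.comp (AlgSt.overMap j) v
  have hu : AlgSt.RepByAlgSpWith (AlgSp.LocP @Smooth) u :=
    repByAlgSpWith_comp (isFibGrpd_overCat U) (isFibGrpd_overCat V) _ (stableBC_locP @Smooth)
      (stableComp_locP @Smooth) isLocalOnBase_fppf_locP_smooth (AlgSt.overMap j) v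
      (repByAlgSpWith_smooth_overMap j) hv1
  refine ⟨Set.range (AlgSt.Points.ofChart u), ?_, ?_,
    spectralSpace_range_ofChart h𝒳 hΔ U hU u hu⟩
  · exact (isOpenMap_ofChart h𝒳.isStack.1 u (repByAlgSpWith_flat_of_smooth hu)
      (repByAlgSpWith_lfp_of_smooth hu)).isOpen_range
  · refine ⟨(⟨t₀, ht₀⟩ : ↥V''), ?_⟩
    exact ofChart_overMap j v _

include h𝒳 hΔ in
/-- `S12835`. -/
theorem spectral_cover_quasiSober_t0 :
    (∀ x : AlgSt.Points 𝒳, ∃ U : Set (AlgSt.Points 𝒳), IsOpen U ∧ x ∈ U ∧ SpectralSpace ↥U) ∧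
      QuasiSober (AlgSt.Points 𝒳) ∧ T0Space (AlgSt.Points 𝒳) := by
  have h := exists_isOpen_spectralSpace_nhd h𝒳 hΔ
  refine ⟨h, ?_, ?_⟩
  · let 𝒮 : Set (Set (AlgSt.Points 𝒳)) := {W | IsOpen W ∧ SpectralSpace ↥W}
    have h1 : ∀ s : 𝒮, IsOpen (s : Set (AlgSt.Points 𝒳)) := fun s => s.2.1
    have h2 : ∀ s : 𝒮, QuasiSober s := fun s => by
      have := s.2.2
      infer_instance
    refine @quasiSober_of_open_cover _ _ 𝒮 h1 h2 ?_
    rw [Set.top_eq_univ, Set.eq_univ_iff_forall]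
    intro x
    obtain ⟨W, hW, hxW, hs⟩ := h x
    exact ⟨W, ⟨hW, hs⟩, hxW⟩
  · refine T0Space.of_open_cover fun x => ?_
    obtain ⟨W, hW, hxW, hs⟩ := h x
    exact ⟨W, hxW, hW, inferInstance⟩

end Local

end Groth.Agent.Helper2.AlgStLib.Pts
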