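import Mathlib
import Groth.Prelude.Def_AlgSt4
import Groth.Agent.Lib.Helper2.AlgSt.Pts.Spectral
import Groth.Agent.Lib.Helper2.AlgSp.Points

/-!
# Quasi-compact algebraic stacks and their spaces of points (helper2)
-/

set_option autoImplicit false
open CategoryTheory CategoryTheory.Functor CategoryTheory.Limits AlgebraicGeometry Opposite

universe u

namespace Groth.Agent.Helper2.AlgStLib.Pts

open Groth.Agent.Helper2 Groth.Agent.Helper2.FibCatLib Groth.Agent.Helper2.StkLib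
open Groth.Agent.Helper2.AlgSpBasic Groth.Agent.Helper2.EtaleLocal
open Groth.Agent.Helper2.AlgStLib

variable {S : Scheme.{u}} {𝒳 𝒴 𝒰 : BasedCategory.{u, u + 1} (Over S)}

theorem isSurjective_of_surjective_ofChart {U : Over S} (x : FibCat.overCat U ⥤ᵇ 𝒳)
    (h : Function.Surjective (AlgSt.Points.ofChart x)) : AlgSt.IsSurjective x := by
  intro y
  obtain ⟨t, rfl⟩ := h y
  exact ⟨ptEquiv U t, rfl⟩

/-- A smooth chart from a scheme whose map on points is surjective is a smooth surjective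
chart. -/
theorem repByAlgSpWith_isSurjectiveMor_of_surjective_ofChart (h𝒳 : FibCat.IsFibGrpd 𝒳.p)
    {U : Over S} (x : FibCat.overCat U ⥤ᵇ 𝒳) (hx : AlgSt.RepByAlgSp1 x)
    (h : Function.Surjective (AlgSt.Points.ofChart x)) :
    AlgSt.RepByAlgSpWith AlgSp.IsSurjectiveMor x :=
  repByAlgSpWith_of_isSurjective (isFibGrpd_overCat U) h𝒳 x hx
    (isSurjective_of_surjective_ofChart x h)

theorem smooth_sigma_desc {ι : Type u} (g : ι → Scheme.{u}) {Y : Scheme.{u}}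
    (h : ∀ i, g i ⟶ Y) [∀ i, Smooth (h i)] : Smooth (Sigma.desc h) := by
  rw [IsZariskiLocalAtSource.iff_of_openCover (P := @Smooth) (sigmaOpenCover g)]
  intro i
  change ι at i
  show Smooth (Sigma.ι g i ≫ Limits.Sigma.desc h)
  have : Sigma.ι g i ≫ Limits.Sigma.desc h = h i := Sigma.ι_desc h i
  rw [this]
  infer_instance

theorem compactSpace_of_chart (h𝒳 : AlgSt.IsAlgStack Scheme.fppfPrecoverage 𝒳) {U : Over S}
    [CompactSpace ↥U.left] (x : FibCat.overCat U ⥤ᵇ 𝒳)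
    (hx : AlgSt.RepByAlgSpWith AlgSp.IsSurjectiveMor x) : CompactSpace (AlgSt.Points 𝒳) :=
  (surjective_ofChart h𝒳.isStack.1 x hx).compactSpace (continuous_ofChart h𝒳 x)

theorem compactSpace_of_isQuasiCompact (h𝒳 : AlgSt.IsAlgStack Scheme.fppfPrecoverage 𝒳)
    (hq : AlgSt.IsQuasiCompact 𝒳) : CompactSpace (AlgSt.Points 𝒳) := by
  obtain ⟨U, x, hU, -, hx2⟩ := hq
  exact compactSpace_of_chart h𝒳 x hx2

theorem isQuasiCompact_of_compactSpace (h𝒳 : AlgSt.IsAlgStack Scheme.fppfPrecoverage 𝒳)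
    [CompactSpace (AlgSt.Points 𝒳)] : AlgSt.IsQuasiCompact 𝒳 := by
  classical
  obtain ⟨V, v, hv1, hv2⟩ := h𝒳.atlas
  let 𝒱 := V.left.affineCover
  have ho := isOpenMap_ofChart h𝒳.isStack.1 v (repByAlgSpWith_flat_of_smooth hv1)
    (repByAlgSpWith_lfp_of_smooth hv1)
  let O : 𝒱.I₀ → Set (AlgSt.Points 𝒳) := fun i =>
    AlgSt.Points.ofChart v '' Set.range (𝒱.f i).base
  have hO : ∀ i, IsOpen (O i) := fun i => ho _ (𝒱.f i).isOpenEmbedding.isOpen_range
  have hcov : (Set.univ : Set (AlgSt.Points 𝒳)) ⊆ ⋃ i, O i := by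
    intro x _
    obtain ⟨t, rfl⟩ := surjective_ofChart h𝒳.isStack.1 v hv2 x
    obtain ⟨i, y, hy⟩ := 𝒱.exists_eq t
    exact Set.mem_iUnion.mpr ⟨i, t, ⟨y, hy⟩, rfl⟩
  obtain ⟨T, hT⟩ := isCompact_univ.elim_finite_subcover O hO hcov
  let g : ↥T → Scheme.{u} := fun i => 𝒱.X i.1
  have hg : ∀ i, IsAffine (g i) := fun i => inferInstance
  let h : ∀ i : ↥T, g i ⟶ V.left := fun i => 𝒱.f i.1
  have hh : ∀ i, Smooth (h i) := fun i => inferInstance
  let j : (∐ g) ⟶ V.left := Sigma.desc h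
  have hj : Smooth j := smooth_sigma_desc g h
  let U' : Over S := Over.mk (j ≫ V.hom)
  let jO : U' ⟶ V := Over.homMk j rfl
  have hjO : Smooth jO.left := hj
  let u : FibCat.overCat U' ⥤ᵇ 𝒳 := BasedFunctor.comp (AlgSt.overMap jO) v
  have hu : AlgSt.RepByAlgSpWith (AlgSp.LocP @Smooth) u :=
    repByAlgSpWith_comp (isFibGrpd_overCat U') (isFibGrpd_overCat V) _ (stableBC_locP @Smooth)
      (stableComp_locP @Smooth) isLocalOnBase_fppf_locP_smooth (AlgSt.overMap jO) v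
      (repByAlgSpWith_smooth_overMap jO) hv1
  refine ⟨U', u, (inferInstance : IsAffine (∐ g)), hu, ?_⟩
  refine repByAlgSpWith_isSurjectiveMor_of_surjective_ofChart h𝒳.isStack.1 u
    (repByAlgSp1_of_repByAlgSpWith _ hu) fun x => ?_
  have hx := hT (Set.mem_univ x)
  simp only [Set.mem_iUnion] at hx
  obtain ⟨i, hi, t, ⟨y, rfl⟩, rfl⟩ := hx
  refine ⟨Sigma.ι g ⟨i, hi⟩ y, ?_⟩
  rw [ofChart_overMap]
  congr 1
  show (Sigma.ι g ⟨i, hi⟩ ≫ Limits.Sigma.desc h) y = _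
  rw [Sigma.ι_desc]

/-- `S12847`. -/
theorem isQuasiCompact_iff_compactSpace (h𝒳 : AlgSt.IsAlgStack Scheme.fppfPrecoverage 𝒳) :
    AlgSt.IsQuasiCompact 𝒳 ↔ CompactSpace (AlgSt.Points 𝒳) :=
  ⟨compactSpace_of_isQuasiCompact h𝒳, fun _ => isQuasiCompact_of_compactSpace h𝒳⟩

/-- `S12858`. -/
theorem isQuasiCompact_of_isSurjective (h𝒰 : AlgSt.IsAlgStack Scheme.fppfPrecoverage 𝒰)
    (h𝒳 : AlgSt.IsAlgStack Scheme.fppfPrecoverage 𝒳) (f : 𝒰 ⥤ᵇ 𝒳) (hf : AlgSt.IsSurjective f)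
    (hq : AlgSt.IsQuasiCompact 𝒰) : AlgSt.IsQuasiCompact 𝒳 := by
  have := compactSpace_of_isQuasiCompact h𝒰 hq
  have : CompactSpace (AlgSt.Points 𝒳) :=
    Function.Surjective.compactSpace (continuous_map h𝒳 f) hf
  exact isQuasiCompact_of_compactSpace h𝒳

/-- `S12857`. -/
theorem isQuasiCompact_iff_exists_compactSpace_chart
    (h𝒳 : AlgSt.IsAlgStack Scheme.fppfPrecoverage 𝒳) :
    AlgSt.IsQuasiCompact 𝒳 ↔
      ∃ (U : Over S) (x : FibCat.overCat U ⥤ᵇ 𝒳), CompactSpace ↥U.left ∧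
        AlgSt.RepByAlgSpWith (AlgSp.LocP @Smooth) x ∧
        AlgSt.RepByAlgSpWith AlgSp.IsSurjectiveMor x := by
  constructor
  · rintro ⟨U, x, hU, h1, h2⟩
    exact ⟨U, x, inferInstance, h1, h2⟩
  · rintro ⟨U, x, hU, -, h2⟩
    have := compactSpace_of_chart h𝒳 x h2
    exact isQuasiCompact_of_compactSpace h𝒳

/-- `S12856`. -/
theorem isQuasiCompact_iff_exists_quasiCompact_space_chart
    (h𝒳 : AlgSt.IsAlgStack Scheme.fppfPrecoverage 𝒳) :
    AlgSt.IsQuasiCompact 𝒳 ↔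
      ∃ (U : AlgSp.Space S) (x : AlgSt.ofSp U.obj ⥤ᵇ 𝒳), AlgSp.IsQuasiCompactSp U.obj ∧
        AlgSt.RepByAlgSpWith (AlgSp.LocP @Smooth) x ∧
        AlgSt.RepByAlgSpWith AlgSp.IsSurjectiveMor x := by
  constructor
  · rintro ⟨U, x, hU, h1, h2⟩
    have e : BasedFunctor.comp (BasedFunctor.comp (AlgSt.toOverCat U) x) (BasedFunctor.id 𝒳) ≅
        BasedFunctor.comp (AlgSt.toOverCat U) x := Iso.refl _
    refine ⟨⟨(AlgSp.yon S).obj U, AlgSp.IsAlgSpace.yon_obj U⟩,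
      BasedFunctor.comp (AlgSt.toOverCat U) x, (isQuasiCompactSp_yon_iff U).mpr inferInstance,
      ?_, ?_⟩
    · exact (repByAlgSpWith_of_square _ x _ (AlgSt.toOverCat U) (BasedFunctor.id 𝒳)
        (toOverCat_isEquivOver U) ReprInv.isEquivOver_id e).1 h1
    · exact (repByAlgSpWith_of_square _ x _ (AlgSt.toOverCat U) (BasedFunctor.id 𝒳)
        (toOverCat_isEquivOver U) ReprInv.isEquivOver_id e).1 h2
  · rintro ⟨U, x, hU, -, h2⟩
    have h1 : CompactSpace (AlgSp.Points U.obj) :=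
      (isQuasiCompactSp_iff_compactSpace_points U.property).1 hU
    have h3 : CompactSpace (AlgSt.Points (AlgSt.ofSp U.obj)) :=
      Function.Surjective.compactSpace (isHomeomorph_spPt U).continuous spPt_surjective
    have : CompactSpace (AlgSt.Points 𝒳) :=
      Function.Surjective.compactSpace (continuous_map h𝒳 x)
        (isSurjective_of_repByAlgSpWith h𝒳.isStack.1 x h2)
    exact isQuasiCompact_of_compactSpace h𝒳

end Groth.Agent.Helper2.AlgStLib.Pts
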