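import Mathlib
import Groth.Prelude.Def_AlgSt4
import Groth.Agent.Lib.Helper2.AlgSt.Pts.QC
import Groth.Agent.Lib.Helper2.AlgSt.QC

/-!
# Quasi-compact morphisms of algebraic stacks via points (helper2)
-/

set_option autoImplicit false
open CategoryTheory CategoryTheory.Functor CategoryTheory.Limits AlgebraicGeometry Opposite

universe u

namespace Groth.Agent.Helper2.AlgStLib.Pts

open Groth.Agent.Helper2 Groth.Agent.Helper2.FibCatLib Groth.Agent.Helper2.StkLib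
open Groth.Agent.Helper2.AlgSpBasic Groth.Agent.Helper2.EtaleLocal
open Groth.Agent.Helper2.AlgStLib

variable {S : Scheme.{u}} {𝒳 𝒴 𝒵 : BasedCategory.{u, u + 1} (Over S)}

/-- Quasi-compactness of a functor only depends on its 2-isomorphism class. -/
theorem isQuasiCompactMor_congr (K : Precoverage Scheme.{u}) {f f' : 𝒳 ⥤ᵇ 𝒴} (e : f ≅ f')
    (hf : AlgSt.IsQuasiCompactMor K f) : AlgSt.IsQuasiCompactMor K f' := by
  intro 𝒲 h𝒲 hq h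
  have e' : BasedFunctor.comp f (BasedFunctor.id 𝒴) ≅ BasedFunctor.comp (BasedFunctor.id 𝒳) f' := e
  obtain ⟨Φ, hΦ, -⟩ := exists_equiv_fp_square_fst f' f (BasedFunctor.id 𝒳) (BasedFunctor.id 𝒴)
    ReprInv.isEquivOver_id ReprInv.isEquivOver_id e' h
  exact isQuasiCompact_of_isEquivOver Φ hΦ (hf 𝒲 h𝒲 hq h)

/-- If `f` is surjective and `f ⋙ q` is quasi-compact then `q` is quasi-compact. -/
theorem isQuasiCompactMor_of_comp_of_isSurjective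
    (h𝒳 : AlgSt.IsAlgStack Scheme.fppfPrecoverage 𝒳)
    (h𝒴 : AlgSt.IsAlgStack Scheme.fppfPrecoverage 𝒴)
    (h𝒵 : AlgSt.IsAlgStack Scheme.fppfPrecoverage 𝒵) (f : 𝒳 ⥤ᵇ 𝒴) (q : 𝒴 ⥤ᵇ 𝒵)
    (hf : AlgSt.IsSurjective f)
    (hp : AlgSt.IsQuasiCompactMor Scheme.fppfPrecoverage (BasedFunctor.comp f q)) :
    AlgSt.IsQuasiCompactMor Scheme.fppfPrecoverage q := by
  intro 𝒲 h𝒲 hq h
  have h1 : AlgSt.IsQuasiCompact (FibCat.fp h (BasedFunctor.comp f q)) := hp 𝒲 h𝒲 hq h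
  have h2 : AlgSt.IsQuasiCompact (FibCat.fp (FibCat.fpSnd h q) f) :=
    (isQuasiCompact_iff_of_isEquivOver (Paste.pasteA h q f) (Paste.pasteA_isEquivOver h q f)).2 h1
  have hA : AlgSt.IsAlgStack Scheme.fppfPrecoverage (FibCat.fp h q) :=
    isAlgStack_fp _ h𝒲 h𝒴 h𝒵 h q
  have hB : AlgSt.IsAlgStack Scheme.fppfPrecoverage (FibCat.fp (FibCat.fpSnd h q) f) :=
    isAlgStack_fp _ hA h𝒳 h𝒴 _ _
  have h3 : AlgSt.IsSurjective (FibCat.fpFst (FibCat.fpSnd h q) f) :=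
    isSurjective_fpFst h𝒳.isStack.1 h𝒴.isStack.1 hA.isStack.1 f (FibCat.fpSnd h q) hf
  exact isQuasiCompact_of_isSurjective hB hA _ h3 h2

/-- `S12985`. -/
theorem isQuasiCompactMor_of_triangle_of_isSurjective
    (h𝒳 : AlgSt.IsAlgStack Scheme.fppfPrecoverage 𝒳)
    (h𝒴 : AlgSt.IsAlgStack Scheme.fppfPrecoverage 𝒴)
    (h𝒵 : AlgSt.IsAlgStack Scheme.fppfPrecoverage 𝒵) (f : 𝒳 ⥤ᵇ 𝒴) (p : 𝒳 ⥤ᵇ 𝒵) (q : 𝒴 ⥤ᵇ 𝒵)
    (e : BasedFunctor.comp f q ≅ p) (hf : AlgSt.IsSurjective f)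
    (hp : AlgSt.IsQuasiCompactMor Scheme.fppfPrecoverage p) :
    AlgSt.IsQuasiCompactMor Scheme.fppfPrecoverage q :=
  isQuasiCompactMor_of_comp_of_isSurjective h𝒳 h𝒴 h𝒵 f q hf
    (isQuasiCompactMor_congr _ e.symm hp)

end Groth.Agent.Helper2.AlgStLib.Pts
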