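import Mathlib
import Groth.Prelude.Def_AlgSt4
import Groth.Agent.Lib.Helper2.AlgSt.Pts.QCMor

/-!
# Descent of quasi-compactness of morphisms along fppf covers (helper2)
-/

set_option autoImplicit false
open CategoryTheory CategoryTheory.Functor CategoryTheory.Limits AlgebraicGeometry Opposite

universe u

namespace Groth.Agent.Helper2.AlgStLib.Pts

open Groth.Agent.Helper2 Groth.Agent.Helper2.FibCatLib Groth.Agent.Helper2.StkLib
open Groth.Agent.Helper2.AlgSpBasic Groth.Agent.Helper2.EtaleLocal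
open Groth.Agent.Helper2.AlgStLib

variable {S : Scheme.{u}} {𝒳 𝒴 𝒵 𝒲 : BasedCategory.{u, u + 1} (Over S)}

/-- A flat, locally finitely presented chart of a stack with quasi-compact space of points, which
is surjective on points, can be refined by an affine scheme, still surjectively on points. -/
theorem exists_affine_refinement (h𝒵 : FibCat.IsFibGrpd 𝒵.p) [CompactSpace (AlgSt.Points 𝒵)]
    {V : Over S} (v : FibCat.overCat V ⥤ᵇ 𝒵)
    (hv₁ : AlgSt.RepByAlgSpWith (AlgSp.LocP @Flat) v)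
    (hv₂ : AlgSt.RepByAlgSpWith (AlgSp.LocP @LocallyOfFinitePresentation) v)
    (hs : Function.Surjective (AlgSt.Points.ofChart v)) :
    ∃ (V₁ : Over S) (j : V₁ ⟶ V), IsAffine V₁.left ∧ Smooth j.left ∧
      Function.Surjective (AlgSt.Points.ofChart (BasedFunctor.comp (AlgSt.overMap j) v)) := by
  classical
  let 𝒱 := V.left.affineCover
  have ho := isOpenMap_ofChart h𝒵 v hv₁ hv₂
  let O : 𝒱.I₀ → Set (AlgSt.Points 𝒵) := fun i =>
    AlgSt.Points.ofChart v '' Set.range (𝒱.f i).base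
  have hO : ∀ i, IsOpen (O i) := fun i => ho _ (𝒱.f i).isOpenEmbedding.isOpen_range
  have hcov : (Set.univ : Set (AlgSt.Points 𝒵)) ⊆ ⋃ i, O i := by
    intro x _
    obtain ⟨t, rfl⟩ := hs x
    obtain ⟨i, y, hy⟩ := 𝒱.exists_eq t
    exact Set.mem_iUnion.mpr ⟨i, t, ⟨y, hy⟩, rfl⟩
  obtain ⟨T, hT⟩ := isCompact_univ.elim_finite_subcover O hO hcov
  let g : ↥T → Scheme.{u} := fun i => 𝒱.X i.1
  have hg : ∀ i, IsAffine (g i) := fun i => inferInstance
  let h : ∀ i : ↥T, g i ⟶ V.left := fun i => 𝒱.f i.1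
  have hh : ∀ i, Smooth (h i) := fun i => inferInstance
  let j : (∐ g) ⟶ V.left := Sigma.desc h
  have hj : Smooth j := smooth_sigma_desc g h
  let U' : Over S := Over.mk (j ≫ V.hom)
  let jO : U' ⟶ V := Over.homMk j rfl
  have hjO : Smooth jO.left := hj
  refine ⟨U', jO, (inferInstance : IsAffine (∐ g)), hjO, fun x => ?_⟩
  have hx := hT (Set.mem_univ x)
  simp only [Set.mem_iUnion] at hx
  obtain ⟨i, hi, t, ⟨y, rfl⟩, rfl⟩ := hx
  refine ⟨Sigma.ι g ⟨i, hi⟩ y, ?_⟩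
  rw [ofChart_overMap]
  congr 1
  show (Sigma.ι g ⟨i, hi⟩ ≫ Limits.Sigma.desc h) y = _
  rw [Sigma.ι_desc]

/-- The second projection of the base change of a surjective functor is surjective. -/
theorem isSurjective_fpSnd (h𝒳 : FibCat.IsFibGrpd 𝒳.p) (h𝒴 : FibCat.IsFibGrpd 𝒴.p)
    (h𝒵 : FibCat.IsFibGrpd 𝒵.p) (f : 𝒳 ⥤ᵇ 𝒴) (g : 𝒵 ⥤ᵇ 𝒴) (hf : AlgSt.IsSurjective f) :
    AlgSt.IsSurjective (FibCat.fpSnd f g) := by
  rw [← FpSwap.fpSwap_fst f g]
  exact isSurjective_comp _ _ (isSurjective_of_isEquivOver _ (FpSwap.fpSwap_isEquivOver f g))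
    (isSurjective_fpFst h𝒳 h𝒴 h𝒵 f g hf)

/-- Descent of quasi-compactness of a morphism along a flat, locally finitely presented,
surjective morphism of algebraic stacks representable by algebraic spaces. -/
theorem isQuasiCompactMor_of_fpFst_of_fppf_rep
    (h𝒳 : AlgSt.IsAlgStack Scheme.fppfPrecoverage 𝒳)
    (h𝒴 : AlgSt.IsAlgStack Scheme.fppfPrecoverage 𝒴)
    (h𝒲 : AlgSt.IsAlgStack Scheme.fppfPrecoverage 𝒲) (f : 𝒳 ⥤ᵇ 𝒴) (w : 𝒲 ⥤ᵇ 𝒴)
    (hw₁ : AlgSt.RepByAlgSpWith (AlgSp.LocP @Flat) w)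
    (hw₂ : AlgSt.RepByAlgSpWith (AlgSp.LocP @LocallyOfFinitePresentation) w)
    (hw₃ : AlgSt.RepByAlgSpWith AlgSp.IsSurjectiveMor w)
    (hq : AlgSt.IsQuasiCompactMor Scheme.fppfPrecoverage (FibCat.fpFst w f)) :
    AlgSt.IsQuasiCompactMor Scheme.fppfPrecoverage f := by
  intro 𝒵 h𝒵 hqc g
  have : CompactSpace (AlgSt.Points 𝒵) := compactSpace_of_isQuasiCompact h𝒵 hqc
  have h𝒫 : AlgSt.IsAlgStack Scheme.fppfPrecoverage (FibCat.fp g w) :=
    isAlgStack_fp _ h𝒵 h𝒲 h𝒴 g w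
  obtain ⟨V₀, a₀, ha1, ha2⟩ := h𝒫.atlas
  have hfV : FibCat.IsFibGrpd (FibCat.overCat V₀).p := isFibGrpd_overCat V₀
  let t₀ : FibCat.overCat V₀ ⥤ᵇ 𝒵 := BasedFunctor.comp a₀ (FibCat.fpFst g w)
  have ht1 : AlgSt.RepByAlgSpWith (AlgSp.LocP @Flat) t₀ :=
    repByAlgSpWith_comp hfV h𝒫.isStack.1 _ (stableBC_locP _) (stableComp_locP _)
      isLocalOnBase_fppf_locP_flat a₀ _ (repByAlgSpWith_flat_of_smooth ha1)
      (repByAlgSpWith_fpFst _ w g hw₁)
  have ht2 : AlgSt.RepByAlgSpWith (AlgSp.LocP @LocallyOfFinitePresentation) t₀ :=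
    repByAlgSpWith_comp hfV h𝒫.isStack.1 _ (stableBC_locP _) (stableComp_locP _)
      isLocalOnBase_fppf_locP_lfp a₀ _ (repByAlgSpWith_lfp_of_smooth ha1)
      (repByAlgSpWith_fpFst _ w g hw₂)
  have ht3 : AlgSt.RepByAlgSpWith AlgSp.IsSurjectiveMor t₀ :=
    repByAlgSpWith_comp hfV h𝒫.isStack.1 _ stableBC_isSurjectiveMor stableComp_isSurjectiveMor
      isLocalOnBase_fppf_isSurjectiveMor a₀ _ ha2 (repByAlgSpWith_fpFst _ w g hw₃)
  obtain ⟨V₁, j, hV₁, -, hsj⟩ := exists_affine_refinement h𝒵.isStack.1 t₀ ht1 ht2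
    (surjective_ofChart h𝒵.isStack.1 t₀ ht3)
  let t : FibCat.overCat V₁ ⥤ᵇ 𝒵 := BasedFunctor.comp (AlgSt.overMap j) t₀
  let s : FibCat.overCat V₁ ⥤ᵇ 𝒲 :=
    BasedFunctor.comp (BasedFunctor.comp (AlgSt.overMap j) a₀) (FibCat.fpSnd g w)
  have θ : BasedFunctor.comp t g ≅ BasedFunctor.comp s w :=
    whiskerLeftIso (BasedFunctor.comp (AlgSt.overMap j) a₀) (FibCat.fpIso g w)
  have hA1 := isAlgStack_overCat (S := S) V₁
  have q1 : AlgSt.IsQuasiCompact (FibCat.fp s (FibCat.fpFst w f)) :=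
    hq (FibCat.overCat V₁) hA1 (isQuasiCompact_overCat V₁ hV₁) s
  have q2 : AlgSt.IsQuasiCompact (FibCat.fp (BasedFunctor.comp s w) f) :=
    isQuasiCompact_of_isEquivOver (Paste.pasteB s w f) (Paste.pasteB_isEquivOver s w f) q1
  obtain ⟨Φ, hΦ, -⟩ := exists_equiv_fp_congr_fst (BasedFunctor.comp s w) (BasedFunctor.comp t g) f
    θ.symm
  have q3 : AlgSt.IsQuasiCompact (FibCat.fp (BasedFunctor.comp t g) f) :=
    isQuasiCompact_of_isEquivOver Φ hΦ q2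
  have q4 : AlgSt.IsQuasiCompact (FibCat.fp t (FibCat.fpFst g f)) :=
    (isQuasiCompact_iff_of_isEquivOver (Paste.pasteB t g f) (Paste.pasteB_isEquivOver t g f)).2 q3
  have hB : AlgSt.IsAlgStack Scheme.fppfPrecoverage (FibCat.fp g f) :=
    isAlgStack_fp _ h𝒵 h𝒳 h𝒴 g f
  have hC : AlgSt.IsAlgStack Scheme.fppfPrecoverage (FibCat.fp t (FibCat.fpFst g f)) :=
    isAlgStack_fp _ hA1 hB h𝒵 _ _
  have hsurj : AlgSt.IsSurjective (FibCat.fpSnd t (FibCat.fpFst g f)) :=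
    isSurjective_fpSnd hA1.isStack.1 h𝒵.isStack.1 hB.isStack.1 t _
      (isSurjective_of_surjective_ofChart t hsj)
  exact isQuasiCompact_of_isSurjective hC hB _ hsurj q4

end Groth.Agent.Helper2.AlgStLib.Pts
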