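import Mathlib
import Groth.Prelude.Def_AlgSt4
import Groth.Agent.Lib.Helper2.AlgSt.Pts.Space
import Groth.Agent.Lib.Helper2.AlgSt.Substack.EssImage
import Groth.Agent.Lib.Helper2.AlgSp.AlgClosedPt
import Groth.Agent.Lib.Helper2.Stk.Yon

/-!
# Lifting points with values in algebraically closed fields along morphisms locally of finite
type (helper2)
-/

set_option autoImplicit false
open CategoryTheory CategoryTheory.Functor CategoryTheory.Limits AlgebraicGeometry Opposite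

universe u

namespace Groth.Agent.Helper2.AlgStLib.Pts

open Groth.Agent.Helper2 Groth.Agent.Helper2.FibCatLib Groth.Agent.Helper2.StkLib
open Groth.Agent.Helper2.AlgSpBasic
open Groth.Agent.Helper2.AlgStLib Groth.Agent.Helper2.AlgStLib.Substack

variable {S : Scheme.{u}} {𝒜 ℬ : BasedCategory.{u, u + 1} (Over S)}

theorem eq_eqToHom_of_comp {C : Type*} [Category C] {X Y : C} (h : X = Y) (f : X ⟶ Y)
    (hf : eqToHom h.symm ≫ f = 𝟙 Y) : f = eqToHom h := by
  subst h
  simpa using hf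

/-- Let `g` be representable by algebraic spaces and locally of finite type.  An object of the
target over the spectrum of an algebraically closed field whose point lies in the image of `|g|`
is in the essential image of `g`. -/
theorem essIm_of_mem_range_of_lft_algClosed (h𝒜 : FibCat.IsFibGrpd 𝒜.p)
    (hℬ : FibCat.IsFibGrpd ℬ.p) (g : 𝒜 ⥤ᵇ ℬ)
    (hg : AlgSt.RepByAlgSpWith (AlgSp.LocP @LocallyOfFiniteType) g)
    {k : Type u} [Field k] [IsAlgClosed k] (s : Spec (CommRingCat.of k) ⟶ S) (z : ℬ.obj)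
    (hz : ℬ.p.obj z = Over.mk s)
    (h : AlgSt.Points.mk ⟨k, s, z, hz⟩ ∈ Set.range (AlgSt.Points.map g)) :
    EssIm g z := by
  obtain ⟨zc, e, he⟩ := exists_functor_of_obj hℬ z hz
  obtain ⟨F, E, hE, hlft⟩ := hg (Over.mk s) zc
  obtain ⟨x, hx⟩ := h
  let p₀ : AlgSt.FPt (FibCat.overCat (Over.mk s)) := ⟨k, s, Over.mk (𝟙 (Over.mk s)), rfl⟩
  have h0 : AlgSt.Points.map zc (AlgSt.Points.mk p₀) = AlgSt.Points.map g x := by
    rw [hx, AlgSt.Points.map_mk]
    exact mk_eq_of_hom (p := p₀.map zc) (q := ⟨k, s, z, hz⟩) e.hom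
  obtain ⟨w, -, -⟩ := exists_points_fp_of_map_eq h𝒜 hℬ (isFibGrpd_overCat _) g zc _ x h0
  obtain ⟨t, -⟩ := isSurjective_of_isEquivOver E hE w
  obtain ⟨t', -⟩ := spPt_surjective (F := F.obj) t
  obtain ⟨σ, hσ⟩ := exists_section_of_locP_lft_algClosed s F.property _ hlft ⟨t'⟩
  let a : (AlgSt.ofSp F.obj).obj := ⟨Over.mk s, σ.hom.app (op (Over.mk s)) ⟨𝟙 _⟩⟩
  let Φ := BasedFunctor.comp E (FibCat.fpFst zc g)
  have hsec : AlgSt.secHom Φ a = 𝟙 _ := by
    have h1 := congrArg (fun m => m.hom.app (op (Over.mk s)) ⟨𝟙 _⟩) hσ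
    exact congrArg ULift.down h1
  let A : Over (Over.mk s) := Φ.obj a
  have hA : A.left = Over.mk s := Φ.w_obj a
  have hhom : A.hom = eqToHom hA := eq_eqToHom_of_comp hA A.hom hsec
  let i : A ≅ Over.mk (𝟙 (Over.mk s)) :=
    Over.isoMk (eqToIso hA) (by
      change eqToHom hA ≫ 𝟙 _ = A.hom
      rw [Category.comp_id, hhom])
  let Z := E.obj a
  exact ⟨Z.obj.snd, ⟨Z.obj.iso.symm ≪≫ zc.toFunctor.mapIso i ≪≫ e⟩⟩

end Groth.Agent.Helper2.AlgStLib.Pts
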