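import Mathlib
import Groth.Prelude.Def_AlgSt4
import Groth.Agent.Lib.Helper2.AlgSt.Pts.AlgClosedLift
import Groth.Agent.Lib.Helper2.AlgSt.DiagCover

/-!
# Surjectivity of the diagonal and lifting of 2-arrows over algebraically closed fields (helper2)
-/

set_option autoImplicit false
open CategoryTheory CategoryTheory.Functor CategoryTheory.Limits AlgebraicGeometry Opposite

universe u

namespace Groth.Agent.Helper2.AlgStLib.Pts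

open Groth.Agent.Helper2 Groth.Agent.Helper2.FibCatLib Groth.Agent.Helper2.StkLib
open Groth.Agent.Helper2.AlgSpBasic
open Groth.Agent.Helper2.AlgStLib Groth.Agent.Helper2.AlgStLib.Substack

variable {S : Scheme.{u}} {𝒳 𝒴 : BasedCategory.{u, u + 1} (Over S)}

theorem diag_lift_of_isSurjective (h𝒳 : AlgSt.IsAlgStack Scheme.fppfPrecoverage 𝒳)
    (h𝒴 : AlgSt.IsAlgStack Scheme.fppfPrecoverage 𝒴) (f : 𝒳 ⥤ᵇ 𝒴)
    (hsurj : AlgSt.IsSurjective (FibCat.diag f))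
    (k : Type u) [Field k] [IsAlgClosed k] (s : Spec (CommRingCat.of k) ⟶ S) (a₁ a₂ : 𝒳.obj)
    (h₁ : 𝒳.p.obj a₁ = Over.mk s) (h₂ : 𝒳.p.obj a₂ = Over.mk s) (β : f.obj a₁ ⟶ f.obj a₂)
    (hβ : 𝒴.p.IsHomLift (𝟙 (Over.mk s)) β) :
    ∃ α : a₁ ⟶ a₂, 𝒳.p.IsHomLift (𝟙 (Over.mk s)) α ∧ f.map α = β := by
  have hβi : IsIso β := IsFibGrpd.isIso_of_isHomLift_id 𝒴.p h𝒴.isStack.1 (S := Over.mk s) β
  have hθ : 𝒴.p.IsHomLift (𝟙 (𝒳.p.obj a₁)) (asIso β).hom := by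
    rw [h₁]
    exact hβ
  let z : (FibCat.fp f f).obj := fpMkObj f f a₁ a₂ (asIso β) hθ
  have hz : (FibCat.fp f f).p.obj z = Over.mk s := h₁
  have hfp : FibCat.IsFibGrpd (FibCat.fp f f).p :=
    isFibGrpd_fp f f h𝒳.isStack.1 h𝒳.isStack.1 h𝒴.isStack.1
  have hess : EssIm (FibCat.diag f) z :=
    essIm_of_mem_range_of_lft_algClosed h𝒳.isStack.1 hfp (FibCat.diag f)
      (repByAlgSpWith_lft_diag h𝒳 h𝒴 f) s z hz (hsurj _)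
  obtain ⟨a, e, he⟩ := exists_iso_over_id_of_essIm h𝒳.isStack.1 (FibCat.diag f) z hess
  let e₁ : a ≅ a₁ := (FibCat.fpFst f f).toFunctor.mapIso e
  let e₂ : a ≅ a₂ := (FibCat.fpSnd f f).toFunctor.mapIso e
  have hw : f.map e₁.hom ≫ β = f.map e₂.hom := by
    have := e.hom.hom.w
    have h3 : ((FibCat.diag f).obj a).obj.iso.hom = 𝟙 _ := rfl
    have h4 : f.map e₁.hom ≫ β = 𝟙 _ ≫ f.map e₂.hom := this
    exact h4.trans (Category.id_comp _)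
  have hl₁ : 𝒳.p.IsHomLift (𝟙 (𝒳.p.obj a₁)) e₁.hom := by
    haveI : (FibCat.fp f f).p.IsHomLift (𝟙 (𝒳.p.obj a₁)) e.hom := he
    exact BasedFunctor.preserves_isHomLift (FibCat.fpFst f f) (𝟙 (𝒳.p.obj a₁)) e.hom
  have hl₂ : 𝒳.p.IsHomLift (𝟙 (𝒳.p.obj a₁)) e₂.hom := by
    haveI : (FibCat.fp f f).p.IsHomLift (𝟙 (𝒳.p.obj a₁)) e.hom := he
    exact BasedFunctor.preserves_isHomLift (FibCat.fpSnd f f) (𝟙 (𝒳.p.obj a₁)) e.hom
  have hl₁' : 𝒳.p.IsHomLift (𝟙 (𝒳.p.obj a₁)) e₁.inv := by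
    have : 𝒳.p.IsHomLift (𝟙 (𝒳.p.obj a₁)) (inv e₁.hom) := IsHomLift.lift_id_inv_isIso _ _ _
    simpa using this
  refine ⟨e₁.inv ≫ e₂.hom, ?_, ?_⟩
  · have h5 : 𝒳.p.IsHomLift (𝟙 (𝒳.p.obj a₁) ≫ 𝟙 (𝒳.p.obj a₁)) (e₁.inv ≫ e₂.hom) := inferInstance
    rw [Category.comp_id] at h5
    exact h₁ ▸ h5
  · have h6 : f.map (e₁.inv ≫ e₂.hom) = f.map e₁.inv ≫ f.map e₂.hom := f.toFunctor.map_comp _ _
    rw [h6, ← hw]
    have h7 : f.map e₁.inv ≫ f.map e₁.hom = 𝟙 _ := by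
      have := f.toFunctor.map_comp e₁.inv e₁.hom
      rw [e₁.inv_hom_id, f.toFunctor.map_id] at this
      exact this.symm
    rw [← Category.assoc, h7, Category.id_comp]

theorem isSurjective_diag_of_lift (h𝒳 : AlgSt.IsAlgStack Scheme.fppfPrecoverage 𝒳)
    (h𝒴 : AlgSt.IsAlgStack Scheme.fppfPrecoverage 𝒴) (f : 𝒳 ⥤ᵇ 𝒴)
    (H : ∀ (k : Type u) [Field k] [IsAlgClosed k] (s : Spec (CommRingCat.of k) ⟶ S)
      (a₁ a₂ : 𝒳.obj) (_ : 𝒳.p.obj a₁ = Over.mk s) (_ : 𝒳.p.obj a₂ = Over.mk s)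
      (β : f.obj a₁ ⟶ f.obj a₂), 𝒴.p.IsHomLift (𝟙 (Over.mk s)) β →
        ∃ α : a₁ ⟶ a₂, 𝒳.p.IsHomLift (𝟙 (Over.mk s)) α ∧ f.map α = β) :
    AlgSt.IsSurjective (FibCat.diag f) := by
  intro y
  obtain ⟨q, rfl⟩ := AlgSt.Points.mk_surjective y
  have hfp : FibCat.IsFibGrpd (FibCat.fp f f).p :=
    isFibGrpd_fp f f h𝒳.isStack.1 h𝒳.isStack.1 h𝒴.isStack.1
  let k := AlgebraicClosure q.K
  let s : Spec (CommRingCat.of k) ⟶ S :=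
    Spec.map (CommRingCat.ofHom (algebraMap q.K k)) ≫ q.str
  let d : Over.mk s ⟶ Over.mk q.str :=
    Over.homMk (Spec.map (CommRingCat.ofHom (algebraMap q.K k))) rfl
  obtain ⟨z', hz', φ, hφ⟩ := exists_fpt_over hfp q s d
  have h₁ : 𝒳.p.obj z'.obj.fst = Over.mk s := hz'
  have h₂ : 𝒳.p.obj z'.obj.snd = Over.mk s := ((FibCat.fpSnd f f).w_obj z').trans hz'
  have hβ : 𝒴.p.IsHomLift (𝟙 (Over.mk s)) z'.obj.iso.hom := by
    have : 𝒴.p.IsHomLift (𝟙 (𝒳.p.obj z'.obj.fst)) z'.obj.iso.hom := z'.property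
    exact h₁ ▸ this
  obtain ⟨α, -, hfα⟩ := H k s z'.obj.fst z'.obj.snd h₁ h₂ z'.obj.iso.hom hβ
  let ψ : (FibCat.diag f).obj z'.obj.fst ⟶ z' :=
    fpMkHom f f (Z := (FibCat.diag f).obj z'.obj.fst) (Z' := z') (𝟙 _) α (by
      have h3 : f.map (𝟙 z'.obj.fst) ≫ z'.obj.iso.hom = 𝟙 _ ≫ f.map α := by
        rw [hfα, Category.id_comp]
        exact (congrArg (fun m => m ≫ z'.obj.iso.hom) (f.toFunctor.map_id _)).trans
          (Category.id_comp _)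
      exact h3)
  refine ⟨AlgSt.Points.mk ⟨k, s, z'.obj.fst, h₁⟩, ?_⟩
  rw [AlgSt.Points.map_mk]
  exact (mk_eq_of_hom (p := (⟨k, s, z'.obj.fst, h₁⟩ : AlgSt.FPt 𝒳).map (FibCat.diag f))
    (q := ⟨k, s, z', hz'⟩) ψ).trans (mk_eq_of_hom (p := ⟨k, s, z', hz'⟩) (q := q) φ)

end Groth.Agent.Helper2.AlgStLib.Pts
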