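import Mathlib
import Groth.Prelude.Def_AlgSt4
import Groth.Agent.Lib.Helper2.AlgSt.Pts.DiagSurj
import Groth.Agent.Lib.Helper2.AlgSt.Pts.Homeo

/-!
# Universally injective morphisms of algebraic stacks and the diagonal (helper2)
-/

set_option autoImplicit false
open CategoryTheory CategoryTheory.Functor CategoryTheory.Limits AlgebraicGeometry Opposite

universe u

namespace Groth.Agent.Helper2.AlgStLib.Pts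

open Groth.Agent.Helper2 Groth.Agent.Helper2.FibCatLib Groth.Agent.Helper2.StkLib
open Groth.Agent.Helper2.AlgSpBasic
open Groth.Agent.Helper2.AlgStLib Groth.Agent.Helper2.AlgStLib.Substack

variable {S : Scheme.{u}} {𝒳 𝒴 : BasedCategory.{u, u + 1} (Over S)}

theorem over_hom_mk_id_ext {T : Type*} [Category T] {U : T} {A : Over U}
    (m n : A ⟶ Over.mk (𝟙 U)) : m = n := by
  apply Over.OverMorphism.ext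
  have h1 : m.left ≫ 𝟙 U = A.hom := Over.w m
  have h2 : n.left ≫ 𝟙 U = A.hom := Over.w n
  have h1' : m.left = A.hom := (Category.comp_id m.left).symm.trans h1
  have h2' : n.left = A.hom := (Category.comp_id n.left).symm.trans h2
  exact h1'.trans h2'.symm

theorem aux_cancel {D : Type*} [Category D] {P Q R T W : D} (a a' : P ⟶ Q) (e : Q ⟶ R)
    (γ : R ⟶ T) (i : P ≅ W) (b₁ : W ⟶ R) (b₂ : W ⟶ T) (h₁ : a ≫ e = i.hom ≫ b₁)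
    (h₂ : a' ≫ (e ≫ γ) = i.hom ≫ b₂) (h : a = a') : b₁ ≫ γ = b₂ := by
  subst h
  rw [← cancel_epi i.hom, ← h₂, ← Category.assoc, ← h₁, Category.assoc]

theorem isSurjective_diag_of_isUnivInjective (h𝒳 : AlgSt.IsAlgStack Scheme.fppfPrecoverage 𝒳)
    (h𝒴 : AlgSt.IsAlgStack Scheme.fppfPrecoverage 𝒴) (f : 𝒳 ⥤ᵇ 𝒴)
    (hinj : AlgSt.IsUnivInjective Scheme.fppfPrecoverage f) :
    AlgSt.IsSurjective (FibCat.diag f) := by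
  intro pt
  obtain ⟨q, rfl⟩ := AlgSt.Points.mk_surjective pt
  let U : Over S := Over.mk q.str
  have hb₁ : 𝒳.p.obj q.obj.obj.fst = U := q.lies
  have hfb₁ : 𝒴.p.obj (f.obj q.obj.obj.fst) = U := (f.w_obj _).trans hb₁
  obtain ⟨y, e, he⟩ := exists_functor_of_obj h𝒴.isStack.1 (f.obj q.obj.obj.fst) hfb₁
  have hγ : 𝒴.p.IsHomLift (𝟙 U) q.obj.obj.iso.hom := by
    have : 𝒴.p.IsHomLift (𝟙 (𝒳.p.obj q.obj.obj.fst)) q.obj.obj.iso.hom := q.obj.property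
    exact hb₁ ▸ this
  have he' : 𝒴.p.IsHomLift (𝟙 U) (e ≪≫ q.obj.obj.iso).hom := by
    have h5 : 𝒴.p.IsHomLift (𝟙 U ≫ 𝟙 U) (e.hom ≫ q.obj.obj.iso.hom) := inferInstance
    rw [Category.comp_id] at h5
    exact h5
  let w₁ : (FibCat.fp y f).obj := fpMkObj y f (Over.mk (𝟙 U)) q.obj.obj.fst e he
  let w₂ : (FibCat.fp y f).obj :=
    fpMkObj y f (Over.mk (𝟙 U)) q.obj.obj.snd (e ≪≫ q.obj.obj.iso) he'
  let p₁ : AlgSt.FPt (FibCat.fp y f) := ⟨q.K, q.str, w₁, rfl⟩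
  let p₂ : AlgSt.FPt (FibCat.fp y f) := ⟨q.K, q.str, w₂, rfl⟩
  have hfp : FibCat.IsFibGrpd (FibCat.fp y f).p :=
    isFibGrpd_fp y f (isFibGrpd_overCat U) h𝒳.isStack.1 h𝒴.isStack.1
  have h12 : AlgSt.Points.mk p₁ = AlgSt.Points.mk p₂ :=
    hinj (FibCat.overCat U) (isAlgStack_overCat U) y rfl
  rw [mk_eq_mk_iff hfp] at h12
  obtain ⟨r, m₁, m₂, -⟩ := h12
  replace m₁ : r.obj ⟶ w₁ := m₁
  replace m₂ : r.obj ⟶ w₂ := m₂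
  have hfst : m₁.hom.fst = m₂.hom.fst := over_hom_mk_id_ext (T := Over S) (U := U) _ _
  have hw₁ : y.map m₁.hom.fst ≫ e.hom = r.obj.obj.iso.hom ≫ f.map m₁.hom.snd := m₁.hom.w
  have hw₂ : y.map m₂.hom.fst ≫ (e.hom ≫ q.obj.obj.iso.hom) =
      r.obj.obj.iso.hom ≫ f.map m₂.hom.snd := m₂.hom.w
  have hw : f.map m₁.hom.snd ≫ q.obj.obj.iso.hom = f.map m₂.hom.snd :=
    aux_cancel (y.map m₁.hom.fst) (y.map m₂.hom.fst) e.hom q.obj.obj.iso.hom r.obj.obj.iso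
      (f.map m₁.hom.snd) (f.map m₂.hom.snd) hw₁ hw₂ (congrArg (fun m => y.map m) hfst)
  let ψ : (FibCat.diag f).obj r.obj.obj.snd ⟶ q.obj :=
    fpMkHom f f (Z := (FibCat.diag f).obj r.obj.obj.snd) (Z' := q.obj) m₁.hom.snd m₂.hom.snd (by
      have h3 : f.map m₁.hom.snd ≫ q.obj.obj.iso.hom = 𝟙 _ ≫ f.map m₂.hom.snd := by
        rw [hw, Category.id_comp]
      exact h3)
  have hl : 𝒳.p.obj r.obj.obj.snd = Over.mk r.str :=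
    ((FibCat.fpSnd y f).w_obj r.obj).trans r.lies
  refine ⟨AlgSt.Points.mk ⟨r.K, r.str, r.obj.obj.snd, hl⟩, ?_⟩
  rw [AlgSt.Points.map_mk]
  exact mk_eq_of_hom (p := (⟨r.K, r.str, r.obj.obj.snd, hl⟩ : AlgSt.FPt 𝒳).map (FibCat.diag f))
    (q := q) ψ

end Groth.Agent.Helper2.AlgStLib.Pts

namespace Groth.Agent.Helper2.AlgStLib.Pts

open Groth.Agent.Helper2 Groth.Agent.Helper2.FibCatLib Groth.Agent.Helper2.StkLib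
open Groth.Agent.Helper2.AlgSpBasic
open Groth.Agent.Helper2.AlgStLib Groth.Agent.Helper2.AlgStLib.Substack

variable {S : Scheme.{u}} {𝒳 𝒴 : BasedCategory.{u, u + 1} (Over S)}

theorem isHomLift_id_comp₃ {𝒟 : Type*} [Category 𝒟] {C : Type*} [Category C] (p : 𝒟 ⥤ C)
    {U : C} {a b c d : 𝒟} (m₁ : a ⟶ b) (m₂ : b ⟶ c) (m₃ : c ⟶ d) (h₁ : p.IsHomLift (𝟙 U) m₁)
    (h₂ : p.IsHomLift (𝟙 U) m₂) (h₃ : p.IsHomLift (𝟙 U) m₃) :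
    p.IsHomLift (𝟙 U) (m₁ ≫ m₂ ≫ m₃) := by
  have h5 : p.IsHomLift (𝟙 U ≫ 𝟙 U ≫ 𝟙 U) (m₁ ≫ m₂ ≫ m₃) := inferInstance
  rw [Category.comp_id, Category.comp_id] at h5
  exact h5

theorem isUnivInjective_of_isSurjective_diag
    (h𝒳 : AlgSt.IsAlgStack Scheme.fppfPrecoverage 𝒳)
    (h𝒴 : AlgSt.IsAlgStack Scheme.fppfPrecoverage 𝒴) (f : 𝒳 ⥤ᵇ 𝒴)
    (hsurj : AlgSt.IsSurjective (FibCat.diag f)) :
    AlgSt.IsUnivInjective Scheme.fppfPrecoverage f := by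
  intro 𝒵 h𝒵 g w₁ w₂ h
  obtain ⟨q₁, rfl⟩ := AlgSt.Points.mk_surjective w₁
  obtain ⟨q₂, rfl⟩ := AlgSt.Points.mk_surjective w₂
  have h𝒵f := h𝒵.isStack.1
  have hfp : FibCat.IsFibGrpd (FibCat.fp g f).p :=
    isFibGrpd_fp g f h𝒵.isStack.1 h𝒳.isStack.1 h𝒴.isStack.1
  rw [AlgSt.Points.map_mk, AlgSt.Points.map_mk, mk_eq_mk_iff h𝒵.isStack.1] at h
  obtain ⟨r, c₁, c₂, -⟩ := h
  replace c₁ : r.obj ⟶ q₁.obj.obj.fst := c₁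
  replace c₂ : r.obj ⟶ q₂.obj.obj.fst := c₂
  obtain ⟨β₁, hβ₁⟩ := exists_base (Q := Over.mk q₁.str) c₁ r.lies (q₁.map (FibCat.fpFst g f)).lies
  obtain ⟨β₂, hβ₂⟩ := exists_base (Q := Over.mk q₂.str) c₂ r.lies (q₂.map (FibCat.fpFst g f)).lies
  let Ω := AlgebraicClosure r.K
  let sΩ : Spec (CommRingCat.of Ω) ⟶ S :=
    Spec.map (CommRingCat.ofHom (algebraMap r.K Ω)) ≫ r.str
  let d : Over.mk sΩ ⟶ Over.mk r.str :=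
    Over.homMk (Spec.map (CommRingCat.ofHom (algebraMap r.K Ω))) rfl
  obtain ⟨r', hr', ρ, hρ⟩ := exists_fpt_over h𝒵f r sΩ d
  obtain ⟨z₁, hz₁, φ₁, hφ₁⟩ := exists_fpt_over hfp q₁ sΩ (d ≫ β₁)
  obtain ⟨z₂, hz₂, φ₂, hφ₂⟩ := exists_fpt_over hfp q₂ sΩ (d ≫ β₂)
  have hφ₁f : 𝒵.p.IsHomLift (d ≫ β₁) φ₁.hom.fst :=
    BasedFunctor.preserves_isHomLift (FibCat.fpFst g f) (d ≫ β₁) φ₁
  have hφ₂f : 𝒵.p.IsHomLift (d ≫ β₂) φ₂.hom.fst :=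
    BasedFunctor.preserves_isHomLift (FibCat.fpFst g f) (d ≫ β₂) φ₂
  have hρc₁ : 𝒵.p.IsHomLift (d ≫ β₁) (ρ ≫ c₁) := inferInstance
  have hρc₂ : 𝒵.p.IsHomLift (d ≫ β₂) (ρ ≫ c₂) := inferInstance
  obtain ⟨κ₁, ⟨hκ₁, -⟩, -⟩ := IsFibGrpd.existsUnique 𝒵.p h𝒵f (𝟙 (Over.mk sΩ)) (d ≫ β₁) (d ≫ β₁)
    (Category.id_comp _).symm φ₁.hom.fst (ρ ≫ c₁)
  obtain ⟨κ₂, ⟨hκ₂, -⟩, -⟩ := IsFibGrpd.existsUnique 𝒵.p h𝒵f (𝟙 (Over.mk sΩ)) (d ≫ β₂) (d ≫ β₂)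
    (Category.id_comp _).symm φ₂.hom.fst (ρ ≫ c₂)
  have hκ₁i : IsIso κ₁ := IsFibGrpd.isIso_of_isHomLift_id 𝒵.p h𝒵f (S := Over.mk sΩ) κ₁
  have hκ₁inv : 𝒵.p.IsHomLift (𝟙 (Over.mk sΩ)) (inv κ₁) := IsHomLift.lift_id_inv_isIso _ _ _
  let ι : z₁.obj.fst ⟶ z₂.obj.fst := inv κ₁ ≫ κ₂
  have hι : 𝒵.p.IsHomLift (𝟙 (Over.mk sΩ)) ι := by
    have h5 : 𝒵.p.IsHomLift (𝟙 (Over.mk sΩ) ≫ 𝟙 (Over.mk sΩ)) (inv κ₁ ≫ κ₂) := inferInstance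
    rw [Category.comp_id] at h5
    exact h5
  have hgι : 𝒴.p.IsHomLift (𝟙 (Over.mk sΩ)) (g.map ι) :=
    BasedFunctor.preserves_isHomLift g _ ι
  have h₁ : 𝒵.p.obj z₁.obj.fst = Over.mk sΩ := hz₁
  have h₂ : 𝒵.p.obj z₂.obj.fst = Over.mk sΩ := hz₂
  have hx₁ : 𝒳.p.obj z₁.obj.snd = Over.mk sΩ := ((FibCat.fpSnd g f).w_obj z₁).trans hz₁
  have hx₂ : 𝒳.p.obj z₂.obj.snd = Over.mk sΩ := ((FibCat.fpSnd g f).w_obj z₂).trans hz₂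
  have hi₁ : 𝒴.p.IsHomLift (𝟙 (Over.mk sΩ)) z₁.obj.iso.hom := by
    have : 𝒴.p.IsHomLift (𝟙 (𝒵.p.obj z₁.obj.fst)) z₁.obj.iso.hom := z₁.property
    exact h₁ ▸ this
  have hi₂ : 𝒴.p.IsHomLift (𝟙 (Over.mk sΩ)) z₂.obj.iso.hom := by
    have : 𝒴.p.IsHomLift (𝟙 (𝒵.p.obj z₂.obj.fst)) z₂.obj.iso.hom := z₂.property
    exact h₂ ▸ this
  have hi₁' : 𝒴.p.IsHomLift (𝟙 (Over.mk sΩ)) z₁.obj.iso.inv := IsHomLift.lift_id_inv _ _ _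
  have hβ : 𝒴.p.IsHomLift (𝟙 (Over.mk sΩ)) (z₁.obj.iso.inv ≫ g.map ι ≫ z₂.obj.iso.hom) :=
    isHomLift_id_comp₃ 𝒴.p _ _ _ hi₁' hgι hi₂
  obtain ⟨α, -, hα⟩ := diag_lift_of_isSurjective h𝒳 h𝒴 f hsurj Ω sΩ z₁.obj.snd z₂.obj.snd hx₁ hx₂
    (z₁.obj.iso.inv ≫ g.map ι ≫ z₂.obj.iso.hom) hβ
  let ψ : z₁ ⟶ z₂ := fpMkHom g f ι α (by
    rw [hα, Iso.hom_inv_id_assoc])
  exact (mk_eq_of_hom (p := ⟨Ω, sΩ, z₁, hz₁⟩) (q := q₁) φ₁).symm.trans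
    ((mk_eq_of_hom (p := ⟨Ω, sΩ, z₁, hz₁⟩) (q := ⟨Ω, sΩ, z₂, hz₂⟩) ψ).trans
      (mk_eq_of_hom (p := ⟨Ω, sΩ, z₂, hz₂⟩) (q := q₂) φ₂))

end Groth.Agent.Helper2.AlgStLib.Pts
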