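import Mathlib
import Groth.Prelude.Def_AlgSt4
import Groth.Agent.Lib.Helper2.AlgSt.Pts.Fp

/-!
# A full functor of categories fibred in groupoids is injective on points (helper2)
-/

set_option autoImplicit false
open CategoryTheory CategoryTheory.Limits AlgebraicGeometry Opposite

universe w₂ v₂ w v u

namespace Groth.Agent.Helper2.AlgStLib.Pts

variable {S : Scheme.{u}}
variable {𝒳 : BasedCategory.{v, w} (Over S)} {𝒴 : BasedCategory.{v₂, w₂} (Over S)}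

theorem injective_map_of_full (h𝒳 : FibCat.IsFibGrpd 𝒳.p) (h𝒴 : FibCat.IsFibGrpd 𝒴.p)
    (f : 𝒳 ⥤ᵇ 𝒴) (hfull : f.toFunctor.Full) : Function.Injective (AlgSt.Points.map f) := by
  intro z x h
  obtain ⟨p, rfl⟩ := AlgSt.Points.mk_surjective z
  obtain ⟨q, rfl⟩ := AlgSt.Points.mk_surjective x
  rw [AlgSt.Points.map_mk, AlgSt.Points.map_mk, mk_eq_mk_iff h𝒴] at h
  obtain ⟨r, a, b, -⟩ := h
  replace a : r.obj ⟶ f.obj p.obj := a
  replace b : r.obj ⟶ f.obj q.obj := b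
  obtain ⟨α, hα⟩ := exists_base (Q := Over.mk p.str) (b := f.obj p.obj) a r.lies (p.map f).lies
  obtain ⟨β, hβ⟩ := exists_base (Q := Over.mk q.str) (b := f.obj q.obj) b r.lies (q.map f).lies
  obtain ⟨p', hp', φ, hφ⟩ := exists_fpt_over h𝒳 p r.str α
  obtain ⟨q', hq', ψ, hψ⟩ := exists_fpt_over h𝒳 q r.str β
  have hgφ : 𝒴.p.IsHomLift α (f.map φ) := BasedFunctor.preserves_isHomLift f α φ
  have hfψ : 𝒴.p.IsHomLift β (f.map ψ) := BasedFunctor.preserves_isHomLift f β ψ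
  obtain ⟨χ₁, ⟨hχ₁, -⟩, -⟩ := IsFibGrpd.existsUnique 𝒴.p h𝒴 (𝟙 (Over.mk r.str)) α α
    (Category.id_comp _).symm a (f.map φ)
  obtain ⟨χ₂, ⟨hχ₂, -⟩, -⟩ := IsFibGrpd.existsUnique 𝒴.p h𝒴 (𝟙 (Over.mk r.str)) β β
    (Category.id_comp _).symm (f.map ψ) b
  obtain ⟨μ, -⟩ := @Functor.Full.map_surjective _ _ _ _ f.toFunctor hfull p' q' (χ₁ ≫ χ₂)
  rw [mk_eq_mk_iff h𝒳]
  exact ⟨⟨r.K, r.str, p', hp'⟩, φ, μ ≫ ψ, trivial⟩

end Groth.Agent.Helper2.AlgStLib.Pts
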