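import Mathlib
import Groth.Prelude.Def_AlgSt4
import Groth.Agent.Lib.Helper2.AlgSt.Pts.QC

/-!
# Points of locally Noetherian algebraic stacks (helper2)
-/

set_option autoImplicit false
open CategoryTheory CategoryTheory.Functor CategoryTheory.Limits AlgebraicGeometry Opposite
open TopologicalSpace

universe u

namespace Groth.Agent.Helper2.AlgStLib.Pts

open Groth.Agent.Helper2 Groth.Agent.Helper2.FibCatLib Groth.Agent.Helper2.StkLib
open Groth.Agent.Helper2.AlgSpBasic Groth.Agent.Helper2.EtaleLocal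
open Groth.Agent.Helper2.AlgStLib

section Topology

variable {α β : Type*} [TopologicalSpace α] [TopologicalSpace β]

/-- The continuous image of a Noetherian quasi-sober space is quasi-sober. -/
theorem quasiSober_of_continuous_surjective [NoetherianSpace α] [QuasiSober α] (f : α → β)
    (hf : Continuous f) (hs : Function.Surjective f) : QuasiSober β := by
  refine ⟨fun {Z} hZ hZc => ?_⟩
  obtain ⟨𝒮, h𝒮f, h𝒮c, h𝒮i, h𝒮U⟩ :=
    NoetherianSpace.exists_finite_set_isClosed_irreducible (hZc.preimage hf)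
  lift 𝒮 to Finset (Set α) using h𝒮f
  classical
  let 𝒯 : Finset (Set β) := 𝒮.image fun t => closure (f '' t)
  have h1 : ∀ z ∈ 𝒯, IsClosed z := by
    intro z hz
    obtain ⟨t, -, rfl⟩ := Finset.mem_image.1 hz
    exact isClosed_closure
  have h2 : Z ⊆ ⋃₀ (𝒯 : Set (Set β)) := by
    intro z hz
    obtain ⟨a, rfl⟩ := hs z
    have ha : a ∈ f ⁻¹' Z := hz
    rw [h𝒮U] at ha
    obtain ⟨t, ht, hat⟩ := ha
    exact ⟨closure (f '' t), Finset.mem_coe.2 (Finset.mem_image.2 ⟨t, ht, rfl⟩),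
      subset_closure ⟨a, hat, rfl⟩⟩
  obtain ⟨z, hz, hZz⟩ := isIrreducible_iff_sUnion_isClosed.1 hZ 𝒯 h1 h2
  obtain ⟨t, ht, rfl⟩ := Finset.mem_image.1 hz
  have ht' : t ⊆ f ⁻¹' Z := by
    rw [h𝒮U]
    exact Set.subset_sUnion_of_mem ht
  obtain ⟨η, hη⟩ := QuasiSober.sober (h𝒮i t ht) (h𝒮c t ht)
  refine ⟨f η, ?_⟩
  change closure {f η} = Z
  apply subset_antisymm
  · refine closure_minimal ?_ hZc
    rintro _ rfl
    exact ht' (hη ▸ subset_closure rfl)
  · refine hZz.trans (closure_minimal ?_ isClosed_closure)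
    rw [← hη.def]
    calc f '' closure {η} ⊆ closure (f '' {η}) := image_closure_subset_closure_image hf
      _ = closure {f η} := by rw [Set.image_singleton]

end Topology

variable {S : Scheme.{u}} {𝒳 : BasedCategory.{u, u + 1} (Over S)}

/-- The image of a Noetherian affine open of a smooth chart. -/
theorem noetherianSpace_image_ofChart (h𝒳 : AlgSt.IsAlgStack Scheme.fppfPrecoverage 𝒳)
    {X : Over S} (c : FibCat.overCat X ⥤ᵇ 𝒳) (W : Set ↥X.left) [NoetherianSpace W] :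
    NoetherianSpace ↥(AlgSt.Points.ofChart c '' W) := by
  have h1 : AlgSt.Points.ofChart c '' W = Set.range (fun w : W => AlgSt.Points.ofChart c w.1) := by
    ext p
    constructor
    · rintro ⟨w, hw, rfl⟩
      exact ⟨⟨w, hw⟩, rfl⟩
    · rintro ⟨w, rfl⟩
      exact ⟨w.1, w.2, rfl⟩
  rw [h1]
  exact NoetherianSpace.range _ ((continuous_ofChart h𝒳 c).comp continuous_subtype_val)

/-- `S13019`. -/
theorem exists_isOpen_noetherianSpace_nhd (h𝒳 : AlgSt.IsAlgStack Scheme.fppfPrecoverage 𝒳)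
    (hN : AlgSt.SmoothLocally (fun T ↦ IsLocallyNoetherian T) 𝒳) (x : AlgSt.Points 𝒳) :
    ∃ U : Set (AlgSt.Points 𝒳), IsOpen U ∧ x ∈ U ∧ NoetherianSpace U ∧ QuasiSober U := by
  obtain ⟨X, c, hc1, hc2⟩ := h𝒳.atlas
  haveI hX : IsLocallyNoetherian X.left := hN X c hc1
  obtain ⟨u, rfl⟩ := surjective_ofChart h𝒳.isStack.1 c hc2 x
  obtain ⟨_, ⟨W, hW, rfl⟩, huW, -⟩ :=
    (X.left.isBasis_affineOpens).exists_subset_of_mem_open (Set.mem_univ u) isOpen_univ
  haveI : IsNoetherianRing Γ(X.left, W) := IsLocallyNoetherian.component_noetherian ⟨W, hW⟩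
  haveI hWN : NoetherianSpace ((W : Set ↥X.left) : Type u) :=
    noetherianSpace_of_isAffineOpen W hW
  have hopen : IsOpenMap (AlgSt.Points.ofChart c) :=
    isOpenMap_ofChart h𝒳.isStack.1 c (repByAlgSpWith_flat_of_smooth hc1)
      (repByAlgSpWith_lfp_of_smooth hc1)
  haveI hNW := noetherianSpace_image_ofChart h𝒳 c (W : Set ↥X.left)
  refine ⟨AlgSt.Points.ofChart c '' W, hopen _ W.isOpen, ⟨u, huW, rfl⟩, hNW, ?_⟩
  let g : ((W : Set ↥X.left) : Type u) → ↥(AlgSt.Points.ofChart c '' (W : Set ↥X.left)) :=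
    fun w => ⟨AlgSt.Points.ofChart c w.1, ⟨w.1, w.2, rfl⟩⟩
  have hg : Continuous g :=
    ((continuous_ofChart h𝒳 c).comp continuous_subtype_val).subtype_mk _
  have hgs : Function.Surjective g := by
    rintro ⟨_, ⟨w, hw, rfl⟩⟩
    exact ⟨⟨w, hw⟩, rfl⟩
  haveI : QuasiSober ((W : Set ↥X.left) : Type u) := by
    haveI : QuasiSober ↥X.left := inferInstance
    exact W.isOpen.isOpenEmbedding_subtypeVal.quasiSober
  exact quasiSober_of_continuous_surjective g hg hgs

end Groth.Agent.Helper2.AlgStLib.Pts
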