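import Mathlib
import Groth.Prelude.Def_AlgSt4
import Groth.Agent.Lib.Helper2.AlgSt.Pts.Homeo
import Groth.Agent.Lib.Helper2.AlgSt.QC
import Groth.Agent.Lib.Helper2.AlgSp.UnivTop
import Groth.Agent.Lib.Helper2.AlgSp.TopCharts

/-!
# Universal topological properties of representable morphisms of algebraic stacks (helper2)
-/

set_option autoImplicit false
open CategoryTheory CategoryTheory.Functor CategoryTheory.Limits AlgebraicGeometry Opposite
open Topology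

universe u

namespace Groth.Agent.Helper2.AlgStLib.Pts

open Groth.Agent.Helper2 Groth.Agent.Helper2.FibCatLib Groth.Agent.Helper2.StkLib
open Groth.Agent.Helper2.AlgSpBasic Groth.Agent.Helper2.EtaleLocal
open Groth.Agent.Helper2.AlgStLib

variable {S : Scheme.{u}}

section Generic

variable (Q : ∀ {α β : Type (u + 1)} [TopologicalSpace α] [TopologicalSpace β], (α → β) → Prop)

/-- Invariance of a property of maps under homeomorphisms of source and target. -/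
def ConjInv : Prop :=
  ∀ {α α' β β' : Type (u + 1)} [TopologicalSpace α] [TopologicalSpace α'] [TopologicalSpace β]
    [TopologicalSpace β'] (e₁ : α ≃ₜ α') (e₂ : β ≃ₜ β') (φ : α → β) (ψ : α' → β'),
    (∀ x, e₂ (φ x) = ψ (e₁ x)) → (Q φ ↔ Q ψ)

/-- Descent of a property of maps along an open surjective chart. -/
def Descends : Prop :=
  ∀ {β β' α α' : Type (u + 1)} [TopologicalSpace β] [TopologicalSpace β'] [TopologicalSpace α]
    [TopologicalSpace α'] (q : β' → β) (q' : α' → α) (a : α → β) (a' : α' → β'),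
    (∀ x, a (q' x) = q (a' x)) → (∀ z u, q z = a u → ∃ x, a' x = z ∧ q' x = u) →
    Function.Surjective a → IsOpenMap a → Continuous a → Continuous a' → Continuous q →
    Continuous q' → Q q' → Q q

variable {Q}

theorem conjInv_of_iff
    (h : ∀ {α α' β β' : Type (u + 1)} [TopologicalSpace α] [TopologicalSpace α']
      [TopologicalSpace β] [TopologicalSpace β'] (e₁ : α ≃ₜ α') (e₂ : β ≃ₜ β') (φ : α → β),
      Q (e₂ ∘ φ ∘ e₁.symm) ↔ Q φ) : ConjInv.{u} Q := by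
  intro α α' β β' _ _ _ _ e₁ e₂ φ ψ hsq
  have : ψ = e₂ ∘ φ ∘ e₁.symm := by
    funext x
    obtain ⟨y, rfl⟩ := e₁.surjective x
    simp [hsq]
  rw [this]
  exact (h e₁ e₂ φ).symm

/-- The bridge between a map of sheaves to a representable sheaf and the functor it defines. -/
theorem bridge (hconj : ConjInv.{u} Q) (F : AlgSp.Space S) {V : Over S}
    (Φ : AlgSt.ofSp F.obj ⥤ᵇ FibCat.overCat V) :
    Q (AlgSp.Points.map (AlgSt.spMapOfOver Φ)) ↔ Q (AlgSt.Points.map Φ) := by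
  obtain ⟨θ⟩ := ofSpMap_spMapOfOver_iso Φ
  let YV : AlgSp.Space S := ⟨(AlgSp.yon S).obj V, AlgSp.IsAlgSpace.yon_obj V⟩
  refine hconj (spPtHomeo F) ((spPtHomeo YV).trans (homeoOfEquivOver (AlgSt.toOverCat V)
    (toOverCat_isEquivOver V) (isAlgStack_overCat V))) _ _ fun x => ?_
  simp only [Homeomorph.trans_apply, spPtHomeo_apply, homeoOfEquivOver_apply]
  rw [← map_ofSpMap_spPt, ← map_comp, map_congr θ]

/-- Precomposition with an equivalence over the base between algebraic stacks. -/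
theorem comp_equiv_iff (hconj : ConjInv.{u} Q) {𝒜 ℬ 𝒞 : BasedCategory.{u, u + 1} (Over S)}
    (e : 𝒜 ⥤ᵇ ℬ) (he : FibCat.IsEquivOver e)
    (hℬ : AlgSt.IsAlgStack Scheme.fppfPrecoverage ℬ) (π : ℬ ⥤ᵇ 𝒞) :
    Q (AlgSt.Points.map (BasedFunctor.comp e π)) ↔ Q (AlgSt.Points.map π) := by
  refine hconj (homeoOfEquivOver e he hℬ) (Homeomorph.refl _) _ _ fun x => ?_
  simp only [Homeomorph.refl_apply, homeoOfEquivOver_apply]
  exact map_comp e π x

variable {𝒳 𝒴 : BasedCategory.{u, u + 1} (Over S)}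

/-- From the stack-side universal property to the representable one. -/
theorem repByAlgSpWith_univSp_of_forall (hconj : ConjInv.{u} Q)
    (haff : ∀ {X Y : AlgSp.Sp S} (f : X ⟶ Y),
      (∀ (Z : Over S), IsAffine Z.left → ∀ (g : (AlgSp.yon S).obj Z ⟶ Y) (P : AlgSp.Sp S)
        (fst : P ⟶ X) (snd : P ⟶ (AlgSp.yon S).obj Z), IsPullback fst snd f g →
        Q (AlgSp.Points.map snd)) → AlgSp.UnivSp (fun _ _ a => Q (AlgSp.Points.map a)) f)
    (f : 𝒳 ⥤ᵇ 𝒴) (hf : AlgSt.RepByAlgSp1 f)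
    (H : ∀ (𝒵 : AlgSt.Cat S), AlgSt.IsAlgStack Scheme.fppfPrecoverage 𝒵 → ∀ (g : 𝒵 ⥤ᵇ 𝒴),
      Q (AlgSt.Points.map (FibCat.fpFst g f))) :
    AlgSt.RepByAlgSpWith (AlgSp.UnivSp (fun _ _ a => Q (AlgSp.Points.map a))) f := by
  intro U y
  obtain ⟨F, e, he⟩ := hf U y
  refine ⟨F, e, he, haff _ fun Z _ g P fst snd sq => ?_⟩
  obtain ⟨h, rfl⟩ := (AlgSp.yon S).map_surjective g
  have hP : AlgSp.IsAlgSpace P :=
    isAlgSpace_of_isPullback (AlgSp.IsAlgSpace.yon_obj U).diag F.property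
      (AlgSp.IsAlgSpace.yon_obj Z) _ _ fst snd sq
  obtain ⟨E, hE, hE2⟩ := exists_equiv_fp_overMap (FibCat.fpFst y f) e he h fst snd sq
  have hB := Paste.pasteB_isEquivOver (AlgSt.overMap h) y f
  have hst1 : AlgSt.IsAlgStack Scheme.fppfPrecoverage
      (FibCat.fp (AlgSt.overMap h) (FibCat.fpFst y f)) :=
    isAlgStack_of_isEquivOver _ E hE (isAlgStack_ofSp ⟨P, hP⟩)
  have hst2 : AlgSt.IsAlgStack Scheme.fppfPrecoverage
      (FibCat.fp (BasedFunctor.comp (AlgSt.overMap h) y) f) :=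
    isAlgStack_of_isEquivOver _ _ hB hst1
  have h0 := H (FibCat.overCat Z) (isAlgStack_overCat Z) (BasedFunctor.comp (AlgSt.overMap h) y)
  have h1 : Q (AlgSt.Points.map (FibCat.fpFst (AlgSt.overMap h) (FibCat.fpFst y f))) :=
    (comp_equiv_iff hconj (Paste.pasteB (AlgSt.overMap h) y f) hB hst2
      (FibCat.fpFst (BasedFunctor.comp (AlgSt.overMap h) y) f)).2 h0
  have h2 : Q (AlgSt.Points.map (BasedFunctor.comp E
      (FibCat.fpFst (AlgSt.overMap h) (FibCat.fpFst y f)))) :=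
    (comp_equiv_iff hconj E hE hst1 _).2 h1
  have h3 := (bridge hconj ⟨P, hP⟩ _).2 h2
  rw [hE2] at h3
  exact h3

/-- From the representable universal property to the stack-side one. -/
theorem forall_of_repByAlgSpWith_univSp (hconj : ConjInv.{u} Q) (hdesc : Descends.{u} Q)
    (h𝒳 : AlgSt.IsAlgStack Scheme.fppfPrecoverage 𝒳)
    (h𝒴 : AlgSt.IsAlgStack Scheme.fppfPrecoverage 𝒴) (f : 𝒳 ⥤ᵇ 𝒴)
    (hf : AlgSt.RepByAlgSpWith (AlgSp.UnivSp (fun _ _ a => Q (AlgSp.Points.map a))) f)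
    (𝒵 : AlgSt.Cat S) (h𝒵 : AlgSt.IsAlgStack Scheme.fppfPrecoverage 𝒵) (g : 𝒵 ⥤ᵇ 𝒴) :
    Q (AlgSt.Points.map (FibCat.fpFst g f)) := by
  obtain ⟨V, v, hv1, hv2⟩ := h𝒵.atlas
  obtain ⟨F, e, he, hq⟩ := hf V (BasedFunctor.comp v g)
  have k1 : Q (AlgSp.Points.map (AlgSt.spMapOfOver (BasedFunctor.comp e
      (FibCat.fpFst (BasedFunctor.comp v g) f)))) :=
    hq (AlgSp.IsAlgSpace.yon_obj V) (𝟙 _) (𝟙 _) _ (IsPullback.id_horiz _)
  have hst2 : AlgSt.IsAlgStack Scheme.fppfPrecoverage (FibCat.fp (BasedFunctor.comp v g) f) :=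
    isAlgStack_fp _ (isAlgStack_overCat V) h𝒳 h𝒴 _ f
  have k2 : Q (AlgSt.Points.map (FibCat.fpFst (BasedFunctor.comp v g) f)) :=
    (comp_equiv_iff hconj e he hst2 _).1 ((bridge hconj F _).1 k1)
  have hB := Paste.pasteB_isEquivOver v g f
  have k3 : Q (AlgSt.Points.map (FibCat.fpFst v (FibCat.fpFst g f))) :=
    (comp_equiv_iff hconj (Paste.pasteB v g f) hB hst2
      (FibCat.fpFst (BasedFunctor.comp v g) f)).2 k2
  have hst : AlgSt.IsAlgStack Scheme.fppfPrecoverage (FibCat.fp g f) :=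
    isAlgStack_fp _ h𝒵 h𝒳 h𝒴 g f
  refine hdesc (AlgSt.Points.map (FibCat.fpFst g f))
    (AlgSt.Points.map (FibCat.fpFst v (FibCat.fpFst g f))) (AlgSt.Points.map v)
    (AlgSt.Points.map (FibCat.fpSnd v (FibCat.fpFst g f))) ?_ ?_ ?_ ?_ ?_ ?_ ?_ ?_ k3
  · intro x
    exact map_fpFst_eq_map_fpSnd v (FibCat.fpFst g f) x
  · intro z u hzu
    obtain ⟨w, hw1, hw2⟩ := exists_points_fp_of_map_eq hst.isStack.1 h𝒵.isStack.1
      (isFibGrpd_overCat V) (FibCat.fpFst g f) v u z hzu.symm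
    exact ⟨w, hw2, hw1⟩
  · exact isSurjective_of_repByAlgSpWith h𝒵.isStack.1 v hv2
  · exact isOpenMap_map_chart h𝒵.isStack.1 v (repByAlgSpWith_flat_of_smooth hv1)
      (repByAlgSpWith_lfp_of_smooth hv1)
  · exact continuous_map h𝒵 v
  · exact continuous_map hst _
  · exact continuous_map h𝒵 _
  · exact continuous_map (isAlgStack_overCat V) _

theorem repByAlgSpWith_univSp_iff (hconj : ConjInv.{u} Q) (hdesc : Descends.{u} Q)
    (haff : ∀ {X Y : AlgSp.Sp S} (f : X ⟶ Y),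
      (∀ (Z : Over S), IsAffine Z.left → ∀ (g : (AlgSp.yon S).obj Z ⟶ Y) (P : AlgSp.Sp S)
        (fst : P ⟶ X) (snd : P ⟶ (AlgSp.yon S).obj Z), IsPullback fst snd f g →
        Q (AlgSp.Points.map snd)) → AlgSp.UnivSp (fun _ _ a => Q (AlgSp.Points.map a)) f)
    (h𝒳 : AlgSt.IsAlgStack Scheme.fppfPrecoverage 𝒳)
    (h𝒴 : AlgSt.IsAlgStack Scheme.fppfPrecoverage 𝒴) (f : 𝒳 ⥤ᵇ 𝒴) (hf : AlgSt.RepByAlgSp1 f) :
    AlgSt.RepByAlgSpWith (AlgSp.UnivSp (fun _ _ a => Q (AlgSp.Points.map a))) f ↔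
      ∀ (𝒵 : AlgSt.Cat S), AlgSt.IsAlgStack Scheme.fppfPrecoverage 𝒵 → ∀ (g : 𝒵 ⥤ᵇ 𝒴),
        Q (AlgSt.Points.map (FibCat.fpFst g f)) :=
  ⟨fun h 𝒵 h𝒵 g => forall_of_repByAlgSpWith_univSp hconj hdesc h𝒳 h𝒴 f h 𝒵 h𝒵 g,
    fun H => repByAlgSpWith_univSp_of_forall hconj haff f hf H⟩

end Generic

section Instances

theorem conjInv_isOpenMap : ConjInv.{u} (fun f => IsOpenMap f) :=
  conjInv_of_iff fun e₁ e₂ φ => isOpenMap_conj_iff e₁ e₂ φ

theorem conjInv_isClosedMap : ConjInv.{u} (fun f => IsClosedMap f) :=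
  conjInv_of_iff fun e₁ e₂ φ => isClosedMap_conj_iff e₁ e₂ φ

theorem conjInv_injective : ConjInv.{u} (fun f => Function.Injective f) :=
  conjInv_of_iff fun e₁ e₂ φ => injective_conj_iff e₁ e₂ φ

theorem conjInv_isQuotientMap : ConjInv.{u} (fun f => IsQuotientMap f) :=
  conjInv_of_iff fun e₁ e₂ φ => isQuotientMap_conj_iff e₁ e₂ φ

theorem conjInv_isHomeomorph : ConjInv.{u} (fun f => IsHomeomorph f) :=
  conjInv_of_iff fun e₁ e₂ φ => isHomeomorph_conj_iff e₁ e₂ φ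

theorem descends_isOpenMap : Descends.{u} (fun f => IsOpenMap f) := by
  intro β β' α α' _ _ _ _ q q' a a' comm cart hs ho hac ha'c hqc hq'c h
  exact TopCharts.isOpenMap_of_charts (ι := PUnit.{1}) q (fun _ => q') (fun _ => a) (fun _ => a')
    (fun _ => comm) (fun _ => cart) (fun b => ⟨PUnit.unit, hs b⟩) (fun _ => ho) (fun _ => ha'c)
    (fun _ => h)

theorem descends_isClosedMap : Descends.{u} (fun f => IsClosedMap f) := by
  intro β β' α α' _ _ _ _ q q' a a' comm cart hs ho hac ha'c hqc hq'c h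
  exact TopCharts.isClosedMap_of_charts (ι := PUnit.{1}) q (fun _ => q') (fun _ => a)
    (fun _ => a') (fun _ => comm) (fun _ => cart) (fun b => ⟨PUnit.unit, hs b⟩) (fun _ => ho)
    (fun _ => ha'c) (fun _ => h)

theorem descends_injective : Descends.{u} (fun f => Function.Injective f) := by
  intro β β' α α' _ _ _ _ q q' a a' comm cart hs ho hac ha'c hqc hq'c h
  exact TopCharts.injective_of_charts (ι := PUnit.{1}) q (fun _ => q') (fun _ => a)
    (fun _ => a') (fun _ => cart) (fun b => ⟨PUnit.unit, hs b⟩) (fun _ => h)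

theorem descends_isQuotientMap : Descends.{u} (fun f => IsQuotientMap f) := by
  intro β β' α α' _ _ _ _ q q' a a' comm cart hs ho hac ha'c hqc hq'c h
  exact TopCharts.isQuotientMap_of_charts (ι := PUnit.{1}) q (fun _ => q') (fun _ => a)
    (fun _ => a') (fun _ => comm) (fun b => ⟨PUnit.unit, hs b⟩) (fun _ => ho) (fun _ => ha'c)
    hqc (fun _ => h)

theorem descends_isHomeomorph : Descends.{u} (fun f => IsHomeomorph f) := by
  intro β β' α α' _ _ _ _ q q' a a' comm cart hs ho hac ha'c hqc hq'c h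
  exact TopCharts.isHomeomorph_of_charts (ι := PUnit.{1}) q (fun _ => q') (fun _ => a)
    (fun _ => a') (fun _ => comm) (fun _ => cart) (fun b => ⟨PUnit.unit, hs b⟩) (fun _ => ho)
    (fun _ => ha'c) hqc (fun _ => h)

variable {𝒳 𝒴 : AlgSt.Cat S} (h𝒳 : AlgSt.IsAlgStack Scheme.fppfPrecoverage 𝒳)
  (h𝒴 : AlgSt.IsAlgStack Scheme.fppfPrecoverage 𝒴) (f : 𝒳 ⥤ᵇ 𝒴) (hf : AlgSt.RepByAlgSp1 f)

include h𝒳 h𝒴 hf

/-- `S12826`. -/
theorem isUnivOpenMor_iff :
    AlgSt.RepByAlgSpWith AlgSp.IsUnivOpenMor f ↔ AlgSt.IsUnivOpen Scheme.fppfPrecoverage f :=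
  repByAlgSpWith_univSp_iff (Q := fun f => IsOpenMap f) conjInv_isOpenMap descends_isOpenMap
    (fun f h => isUnivOpenMor_of_affine f h) h𝒳 h𝒴 f hf

/-- `S12827`. -/
theorem isUnivSubmersiveMor_iff :
    AlgSt.RepByAlgSpWith AlgSp.IsUnivSubmersiveMor f ↔
      ∀ (𝒵 : AlgSt.Cat S), AlgSt.IsAlgStack Scheme.fppfPrecoverage 𝒵 → ∀ (g : 𝒵 ⥤ᵇ 𝒴),
        Topology.IsQuotientMap (AlgSt.Points.map (FibCat.fpFst g f)) :=
  repByAlgSpWith_univSp_iff (Q := fun f => IsQuotientMap f) conjInv_isQuotientMap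
    descends_isQuotientMap (fun f h => isUnivSubmersiveMor_of_affine f h) h𝒳 h𝒴 f hf

/-- `S12828`. -/
theorem isUnivClosedMor_iff :
    AlgSt.RepByAlgSpWith AlgSp.IsUnivClosedMor f ↔ AlgSt.IsUnivClosed Scheme.fppfPrecoverage f :=
  repByAlgSpWith_univSp_iff (Q := fun f => IsClosedMap f) conjInv_isClosedMap
    descends_isClosedMap (fun f h => isUnivClosedMor_of_affine f h) h𝒳 h𝒴 f hf

/-- `S12829`. -/
theorem isUnivInjectiveMor_iff :
    AlgSt.RepByAlgSpWith AlgSp.IsUnivInjectiveMor f ↔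
      AlgSt.IsUnivInjective Scheme.fppfPrecoverage f :=
  repByAlgSpWith_univSp_iff (Q := fun f => Function.Injective f) conjInv_injective
    descends_injective (fun f h => isUnivInjectiveMor_of_affine f h) h𝒳 h𝒴 f hf

/-- `S12830`. -/
theorem isUnivHomeoMor_iff :
    AlgSt.RepByAlgSpWith AlgSp.IsUnivHomeoMor f ↔ AlgSt.IsUnivHomeo Scheme.fppfPrecoverage f :=
  repByAlgSpWith_univSp_iff (Q := fun f => IsHomeomorph f) conjInv_isHomeomorph
    descends_isHomeomorph (fun f h => isUnivHomeoMor_of_affine f h) h𝒳 h𝒴 f hf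

end Instances

end Groth.Agent.Helper2.AlgStLib.Pts
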